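import Cfsg.Agent.Lib.Blocks.CyclicNilpotent
import Cfsg.Agent.Lib.BrauerPairs.PairKernel

/-!
# Subsections of a block with abelian defect group

The subsections of `B` are the conjugates of those below a maximal pair, fused by its stabiliser;
if all their local blocks have rank one, their number is `k(B) - l(B)`.
-/

set_option autoImplicit false
set_option linter.style.haveILetI false
set_option linter.unusedSectionVars false

namespace CfsgLib.KleinDefect

open Cfsg MonoidAlgebra CfsgLib.BrauerPairs CfsgLib.CyclicDefectBound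

universe u

variable {G : Type u} [Group G] [Fintype G] {p : ℕ} [hp : Fact p.Prime] {M : Ideal AlgInt}
  [M.IsMaximal] {B : Set (IrrCharacter G)} {P : Subgroup G} {e : MonoidAlgebra (ResK M) G}

theorem map_zpowers_conj (g x : G) :
    (Subgroup.zpowers x).map (MulAut.conj g).toMonoidHom = Subgroup.zpowers (g * x * g⁻¹) := by
  rw [MonoidHom.map_zpowers]; rfl

/-- Conjugate pairs below `(P, e)` over elements of an abelian defect group are conjugate in the
stabiliser of `(P, e)`. -/
theorem exists_stab_of_conj (hM : IsPModular p M) (hPp : IsPGroup p P) (hPc : P ≤ cz P)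
    (he : IsBlockIdem (cz P) e) {T : Subgroup G}
    (hT : ∀ g : G, g ∈ T ↔ g ∈ Subgroup.normalizer (P : Set G) ∧ conjA g e = e)
    {u u' h : G} (hu : u ∈ P) (hu' : u' ∈ P) {a a' : MonoidAlgebra (ResK M) G}
    (ha : OverPair p (Subgroup.zpowers u) a (cz (Subgroup.zpowers u)) P e)
    (hb' : IsBlockIdem (cz (Subgroup.zpowers u')) a')
    (hd' : IsDefect p (Subgroup.zpowers u') a' (cz (Subgroup.zpowers u')) P)
    (ha' : OverPair p (Subgroup.zpowers u') a' (cz (Subgroup.zpowers u')) P e)
    (hhu : h * u * h⁻¹ = u') (hha : conjA h a = a') :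
    ∃ t ∈ T, t * u * t⁻¹ = u' := by
  have := charP_res hM
  set Q := Subgroup.zpowers u
  set Q' := Subgroup.zpowers u'
  have hmapQ : Q.map (MulAut.conj h).toMonoidHom = Q' := by rw [map_zpowers_conj, hhu]
  have hQ'P : Q' ≤ P := Subgroup.zpowers_le.2 hu'
  have hS : BrSetup p Q' a' (cz Q') :=
    ⟨hPp.to_le hQ'P, hb', cz_le_normalizer Q', le_rfl,
      hQ'P.trans (hPc.trans (cz_anti hQ'P)), hb'.fixed⟩
  have hO' : OverPair p Q' a' (cz Q') (P.map (MulAut.conj h).toMonoidHom) (conjA h e) := by
    refine ⟨hPp.map _, hmapQ ▸ Subgroup.map_mono (Subgroup.zpowers_le.2 hu), ?_, ?_, ?_⟩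
    · rw [← hmapQ, cz_map_conj]
      exact Subgroup.map_mono ha.le_T
    · rw [cz_map_conj]; exact he.conjA h
    · conv_lhs => rw [← hha]
      rw [← conjA_brMap, ← conjA_mul, ha.cover]
  obtain ⟨v, hv, hvle⟩ := hS.exists_conj_le (hasBlocks hM) hO' hd' ha'
  have hcard : (conjPair v (P.map (MulAut.conj h).toMonoidHom, conjA h e)).1 = P :=
    Subgroup.eq_of_le_of_card_ge hvle.le (by
      show Nat.card P ≤ Nat.card ((P.map (MulAut.conj h).toMonoidHom).map
        (MulAut.conj v).toMonoidHom : Subgroup G)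
      rw [Subgroup.card_map_of_injective (MulAut.conj v).injective,
        Subgroup.card_map_of_injective (MulAut.conj h).injective])
  have heq : conjPair (v * h) (P, e) = (P, e) := by
    rw [conjPair_mul]
    refine Prod.ext hcard (pairLE_unique (hasBlocks hM) (b := (P, e)) (Q := P) he hPp ?_
      Relation.ReflTransGen.refl)
    have h' := hvle
    rw [show conjPair v (P.map (MulAut.conj h).toMonoidHom, conjA h e) =
      (P, (conjPair v (P.map (MulAut.conj h).toMonoidHom, conjA h e)).2) from Prod.ext hcard rfl]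
      at h'
    exact h'
  refine ⟨v * h, (hT _).2 ⟨Fusion.mem_normalizer_of_forall fun z hz => ?_,
    congrArg Prod.snd heq⟩, ?_⟩
  · exact (show P.map (MulAut.conj (v * h)).toMonoidHom = P from congrArg Prod.fst heq).le
      ⟨z, hz, rfl⟩
  · calc v * h * u * (v * h)⁻¹ = v * (h * u * h⁻¹) * v⁻¹ := by group
      _ = v * u' * v⁻¹ := by rw [hhu]
      _ = u' := by rw [← mem_cz.1 hv u' (Subgroup.mem_zpowers u'), mul_inv_cancel_right]

theorem mem_centralizer_conj_iff (g u k : G) :
    k ∈ Subgroup.centralizer ({g * u * g⁻¹} : Set G) ↔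
      g⁻¹ * k * g ∈ Subgroup.centralizer ({u} : Set G) := by
  simp only [Subgroup.mem_centralizer_singleton_iff]
  constructor
  · intro hz
    have := congrArg (fun w => g⁻¹ * w * g) hz
    simpa [mul_assoc] using this
  · intro hz
    have := congrArg (fun w => g * w * g⁻¹) hz
    simpa [mul_assoc] using this

/-- With local blocks of rank one, `k(B) - l(B)` is the number of orbits of the stabiliser of a
maximal pair on the nontrivial elements of the abelian defect group. -/
theorem card_sub_rank (hM : IsPModular p M) (hB : IsPBlock M B) (hD : IsDefectGroup p M B P)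
    (hPc : P ≤ cz P) (he : IsBlockIdem (cz P) e)
    (hcov : brMap (ResK M) P (eG hM B) * e = e) {T : Subgroup G}
    (hT : ∀ g : G, g ∈ T ↔ g ∈ Subgroup.normalizer (P : Set G) ∧ conjA g e = e)
    (hl : ∀ x ∈ P, x ≠ 1 → ∀ f : Set (IrrCharacter (Subgroup.centralizer ({x} : Set G))),
      IsPBlock M f → IsDefectGroup p M f (P.subgroupOf (Subgroup.centralizer ({x} : Set G))) →
        blockRank p f = 1)
    (R : Finset G) (hR1 : ∀ r ∈ R, r ∈ P ∧ r ≠ 1)
    (hR2 : ∀ v ∈ P, v ≠ 1 → ∃ t ∈ T, ∃ r ∈ R, t * r * t⁻¹ = v)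
    (hR3 : ∀ r ∈ R, ∀ r' ∈ R, ∀ t ∈ T, t * r * t⁻¹ = r' → r = r') :
    (Nat.card B : ℤ) - (blockRank p B : ℤ) = R.card := by
  classical
  let _ : ∀ K : Subgroup G, Fintype K := fun K => Fintype.ofFinite K
  have := charP_res hM
  have hD0 := (isDefectGroup_iff hM hB P).1 hD
  have hPp : IsPGroup p P := hD0.pgroup
  have hdata : ∀ u : P, ∃ a : MonoidAlgebra (ResK M) G, (u : G) = u ∧
      ∃ f : Set (IrrCharacter (Subgroup.centralizer ({(u : G)} : Set G))), IsPBlock M f ∧
        IsDefectGroup p M f (P.subgroupOf (Subgroup.centralizer ({(u : G)} : Set G))) ∧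
        IsInducedBlock M (Subgroup.centralizer ({(u : G)} : Set G)) f B ∧
        eA hM _ f = a ∧ PairLE p (Subgroup.zpowers (u : G), a) (P, e) ∧
        brMap (ResK M) (Subgroup.zpowers (u : G)) (eG hM B) * a = a ∧
        IsBlockIdem (cz (Subgroup.zpowers (u : G))) a ∧
        IsDefect p (Subgroup.zpowers (u : G)) a (cz (Subgroup.zpowers (u : G))) P ∧
        OverPair p (Subgroup.zpowers (u : G)) a (cz (Subgroup.zpowers (u : G))) P e := by
    intro u
    obtain ⟨f, hf, h1, h2, h5, h3, h6, h4⟩ := exists_local_block (Q := Subgroup.zpowers (u : G))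
      (K := Subgroup.centralizer ({(u : G)} : Set G)) hM hB hD hPc he hcov
      (Subgroup.zpowers_le.2 u.2) (centralizer_singleton_eq _)
    exact ⟨_, rfl, f, hf, h6, h5, rfl, h1, h2,
      centralizer_singleton_eq (u : G) ▸ isBlockIdem_eA hM hf,
      centralizer_singleton_eq (u : G) ▸ h3, centralizer_singleton_eq (u : G) ▸ h4⟩
  choose a _ fu hfu hfud hfuI hfa hale hacov hab hadef haover using hdata
  set R' : Finset P := Finset.univ.filter fun u : P => (u : G) ∈ R with hR'
  have hR'card : R'.card = R.card := by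
    rw [← Finset.card_map ⟨fun u : P => (u : G), Subtype.val_injective⟩]
    congr 1
    ext x
    simp only [hR', Finset.mem_map, Finset.mem_filter, Finset.mem_univ, true_and,
      Function.Embedding.coeFn_mk]
    exact ⟨fun ⟨u, hu, hux⟩ => hux ▸ hu, fun hx => ⟨⟨x, (hR1 x hx).1⟩, hx, rfl⟩⟩
  set D₀ : Finset (P × G) := R' ×ˢ Finset.univ with hD₀
  let Φ : P × G → G × MonoidAlgebra (ResK M) G := fun t =>
    (t.2 * (t.1 : G) * t.2⁻¹, conjA t.2 (a t.1))
  set I := D₀.image Φ with hI
  -- the fibres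
  have hfib : ∀ i ∈ I, (D₀.filter fun t => Φ t = i).card =
      Nat.card (Subgroup.centralizer ({i.1} : Set G)) := by
    intro i hi
    obtain ⟨⟨u, g⟩, hug, rfl⟩ := Finset.mem_image.1 hi
    have hcc : Nat.card (Subgroup.centralizer ({g * (u : G) * g⁻¹} : Set G)) =
        Nat.card (Subgroup.centralizer ({(u : G)} : Set G)) := by
      refine Nat.card_congr ⟨fun z => ⟨g⁻¹ * z * g, (mem_centralizer_conj_iff g u z).1 z.2⟩,
        fun z => ⟨g * z * g⁻¹, (mem_centralizer_conj_iff g u _).2 ?_⟩,
        fun z => Subtype.ext (by group), fun z => Subtype.ext (by group)⟩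
      simpa [mul_assoc] using z.2
    show _ = Nat.card (Subgroup.centralizer ({g * (u : G) * g⁻¹} : Set G))
    rw [hcc, Nat.card_eq_fintype_card, ← Finset.card_univ]
    refine (Finset.card_bij
      (fun (c : ↥(Subgroup.centralizer ({(u : G)} : Set G))) _ => (u, g * (c : G))) ?_ ?_ ?_).symm
    · intro c _
      simp only [Finset.mem_filter, hD₀, Finset.mem_product, Finset.mem_univ, and_true]
      refine ⟨by simpa [hD₀] using hug, ?_⟩
      simp only [Φ]
      refine Prod.ext ?_ ?_
      · show g * (c : G) * (u : G) * (g * c)⁻¹ = g * u * g⁻¹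
        have := Subgroup.mem_centralizer_singleton_iff.1 c.2
        rw [mul_assoc g, this]; group
      · show conjA (g * (c : G)) (a u) = conjA g (a u)
        rw [conjA_mul_left, (hab u).fixed c (centralizer_singleton_eq (u : G) ▸ c.2)]
    · intro c _ c' _ hcc'
      exact Subtype.ext (mul_left_cancel (congrArg Prod.snd hcc'))
    · rintro ⟨u', g'⟩ ht
      simp only [Finset.mem_filter, Φ, hD₀, Finset.mem_product, Finset.mem_univ, and_true] at ht
      have e1 : g' * (u' : G) * g'⁻¹ = g * u * g⁻¹ := congrArg Prod.fst ht.2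
      have e2 : conjA g' (a u') = conjA g (a u) := congrArg Prod.snd ht.2
      have hh : g'⁻¹ * g * (u : G) * (g'⁻¹ * g)⁻¹ = u' := by
        rw [show g'⁻¹ * g * (u : G) * (g'⁻¹ * g)⁻¹ = g'⁻¹ * (g * u * g⁻¹) * g' by group, ← e1]
        group
      obtain ⟨t, ht', htu⟩ := exists_stab_of_conj hM hPp hPc he hT u.2 u'.2 (haover u) (hab u')
        (hadef u') (haover u') hh
        (by rw [conjA_mul_left, ← e2, ← conjA_mul_left, inv_mul_cancel, conjA_one_left])
      have huR : (u : G) ∈ R := by simpa [hD₀, hR'] using hug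
      have huu : u = u' := Subtype.ext (hR3 _ huR _ (by simpa [hR'] using ht.1) t ht' htu)
      subst huu
      have hcen : g'⁻¹ * g ∈ Subgroup.centralizer ({(u : G)} : Set G) :=
        Subgroup.mem_centralizer_singleton_iff.2 (mul_inv_eq_iff_eq_mul.1 hh)
      exact ⟨⟨g⁻¹ * g', by
        have := inv_mem hcen
        rwa [mul_inv_rev, inv_inv] at this⟩, Finset.mem_univ _,
        Prod.ext rfl (mul_inv_cancel_left g g')⟩
  have hsum : ∑ i ∈ I, Nat.card (Subgroup.centralizer ({i.1} : Set G)) =
      R.card * Nat.card G := by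
    rw [← Finset.sum_congr rfl hfib, ← Finset.card_eq_sum_card_image, hD₀, Finset.card_product,
      Finset.card_univ, hR'card, Nat.card_eq_fintype_card]
  have hIS : ∀ i ∈ I, i.1 ∈ LocalCount.singularPElts p G := by
    intro i hi
    obtain ⟨⟨u, g⟩, hug, rfl⟩ := Finset.mem_image.1 hi
    have hu : (u : G) ∈ R := by simpa [hD₀, hR'] using hug
    rw [LocalCount.mem_singularPElts]
    refine ⟨?_, ?_⟩
    · simp only [Φ]
      rw [show g * (u : G) * g⁻¹ = MulAut.conj g (u : G) from rfl, MulEquiv.orderOf_eq,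
        Subgroup.orderOf_coe]
      exact IsPGroup.iff_orderOf.1 hPp u
    · simp only [Φ]
      intro h0
      exact (hR1 _ hu).2 (conj_eq_one_iff.1 h0)
  -- every subsection is a conjugate of a chosen one
  have hcover : ∀ y ∈ LocalCount.singularPElts p G,
      ∀ b : Set (IrrCharacter (Subgroup.centralizer ({y} : Set G))),
        IsInducedBlock M (Subgroup.centralizer ({y} : Set G)) b B →
          ∃ u : P, (u : G) ∈ R ∧ ∃ g : G, g * (u : G) * g⁻¹ = y ∧
            conjA g (a u) = eA hM _ b := by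
    intro y hy b hb
    obtain ⟨⟨n, hn⟩, hy1⟩ := LocalCount.mem_singularPElts.1 hy
    set Q := Subgroup.zpowers y with hQ
    have hK : Subgroup.centralizer ({y} : Set G) = cz Q := centralizer_singleton_eq y
    have hQp : IsPGroup p Q := IsPGroup.of_card (by rw [hQ, Nat.card_zpowers, hn])
    have hQK : Q ≤ Subgroup.centralizer ({y} : Set G) :=
      Subgroup.zpowers_le.2 (Subgroup.mem_centralizer_singleton_iff.2 rfl)
    have hbI : IsBlockIdem (cz Q) (eA hM _ b) := hK ▸ isBlockIdem_eA hM hb.1
    have hO : OverPair p (⊥ : Subgroup G) (eG hM B) ⊤ Q (eA hM _ b) :=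
      ⟨hQp, bot_le, le_top, hbI, cover_of_induced hM hQp hQK hK.ge hb hbI
        (by rw [brMap_eq_self hbI.supp, hbI.idem])⟩
    obtain ⟨g, -, hg⟩ := (brSetup_block hM hB).exists_conj_le (hasBlocks hM) hO hD0
      ⟨hPp, bot_le, le_top, he, hcov⟩
    have huP : g * y * g⁻¹ ∈ P := hg.le ⟨y, Subgroup.mem_zpowers y, rfl⟩
    have hu1 : g * y * g⁻¹ ≠ 1 := fun h => hy1 (conj_eq_one_iff.1 h)
    obtain ⟨t, ht, r, hr, htr⟩ := hR2 _ huP hu1
    let v : P := ⟨r, (hR1 r hr).1⟩
    have hg' : PairLE p (Subgroup.zpowers (g * y * g⁻¹), conjA g (eA hM _ b)) (P, e) := by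
      rw [← map_zpowers_conj]; exact hg
    have ht' : PairLE p (Subgroup.zpowers (g * y * g⁻¹), conjA t (a v)) (P, e) := by
      have h' := (hale v).conj t
      obtain ⟨htN, hte⟩ := (hT t).1 ht
      rwa [show conjPair t (P, e) = (P, e) from Prod.ext (map_conj_eq_self htN) hte,
        show conjPair t (Subgroup.zpowers (v : G), a v) =
          (Subgroup.zpowers (g * y * g⁻¹), conjA t (a v)) from
          Prod.ext (by rw [← htr]; exact map_zpowers_conj t r) rfl] at h'
    have heq : conjA g (eA hM _ b) = conjA t (a v) :=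
      pairLE_unique (hasBlocks hM) (b := (P, e)) he hPp hg' ht'
    refine ⟨v, hr, g⁻¹ * t, ?_, ?_⟩
    · show g⁻¹ * t * r * (g⁻¹ * t)⁻¹ = y
      calc g⁻¹ * t * r * (g⁻¹ * t)⁻¹ = g⁻¹ * (t * r * t⁻¹) * g := by group
        _ = y := by rw [htr]; group
    · rw [conjA_mul_left, ← heq, ← conjA_mul_left, inv_mul_cancel, conjA_one_left]
  have hloc : ∀ y ∈ LocalCount.singularPElts p G,
      LocalCount.localRank p M (Subgroup.centralizer ({y} : Set G)) B =
        (I.filter fun i => i.1 = y).card := by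
    intro y hy
    have hfin : {b : Set (IrrCharacter (Subgroup.centralizer ({y} : Set G))) |
        IsInducedBlock M (Subgroup.centralizer ({y} : Set G)) b B}.Finite := Set.toFinite _
    have hrank : ∀ b ∈ hfin.toFinset, blockRank p b = 1 := by
      intro b hb
      obtain ⟨u, hu, g, hgu, hga⟩ := hcover y hy b (hfin.mem_toFinset.1 hb)
      have hK : ∀ k : G, k ∈ Subgroup.centralizer ({y} : Set G) ↔
          g⁻¹ * k * g ∈ Subgroup.centralizer ({(u : G)} : Set G) := fun k => by
        rw [← hgu]; exact mem_centralizer_conj_iff g u k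
      have hbeq : CharCorr.twistIrr (conjEquiv g hK) '' fu u = b :=
        eA_inj hM (isPBlock_twist _ (hfu u)) (hfin.mem_toFinset.1 hb).1
          (by rw [← conjA_eA hM g hK, hfa, hga])
      rw [← hbeq, LocalCount.blockRank_twist]
      exact hl u u.2 (hR1 _ hu).2 _ (hfu u) (hfud u)
    rw [LocalCount.localRank, finsum_mem_eq_finite_toFinset_sum _ hfin, Finset.sum_congr rfl hrank,
      Finset.sum_const, smul_eq_mul, mul_one]
    refine Finset.card_bij (fun b _ => (y, eA hM _ b)) ?_ ?_ ?_
    · intro b hb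
      obtain ⟨u, hu, g, hgu, hga⟩ := hcover y hy b (hfin.mem_toFinset.1 hb)
      refine Finset.mem_filter.2 ⟨Finset.mem_image.2 ⟨(u, g), ?_, ?_⟩, rfl⟩
      · simp [hD₀, hR', hu]
      · exact Prod.ext hgu hga
    · intro b hb b' hb' hbb
      exact eA_inj hM (hfin.mem_toFinset.1 hb).1 (hfin.mem_toFinset.1 hb').1
        (congrArg Prod.snd hbb)
    · intro i hi
      obtain ⟨hiI, rfl⟩ := Finset.mem_filter.1 hi
      obtain ⟨⟨u, g⟩, -, rfl⟩ := Finset.mem_image.1 hiI
      simp only [Φ]
      refine ⟨CharCorr.twistIrr (conjEquiv g (mem_centralizer_conj_iff g (u : G))) '' fu u,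
        hfin.mem_toFinset.2 ?_, ?_⟩
      swap
      · rw [← conjA_eA hM g (mem_centralizer_conj_iff g (u : G)), hfa]
      have hQ : Subgroup.zpowers (g * (u : G) * g⁻¹) =
          (Subgroup.zpowers (u : G)).map (MulAut.conj g).toMonoidHom := (map_zpowers_conj g _).symm
      have hQc : Subgroup.zpowers (g * (u : G) * g⁻¹) ≤
          cz (Subgroup.zpowers (g * (u : G) * g⁻¹)) := by
        rw [← centralizer_singleton_eq]
        exact Subgroup.zpowers_le.2 (Subgroup.mem_centralizer_singleton_iff.2 rfl)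
      refine induced_of_cover hM (hQ ▸ (hPp.to_le (Subgroup.zpowers_le.2 u.2)).map _) hQc
        (centralizer_singleton_eq _) hB (isPBlock_twist _ (hfu u)) ?_
      rw [← conjA_eA hM g (mem_centralizer_conj_iff g (u : G)), hfa, hQ]
      have hfix : conjA g (eG hM B) = eG hM B :=
        (isBlockIdem_eG hM hB).fixed g (Subgroup.mem_top g)
      conv_lhs => rw [← hfix]
      rw [← conjA_brMap, ← conjA_mul, hacov u]
  have hcount := LocalCount.card_mul_eq_sum_weight hM hB
  have hnat : ∑ y ∈ LocalCount.singularPElts p G, Nat.card (Subgroup.centralizer ({y} : Set G)) *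
      LocalCount.localRank p M (Subgroup.centralizer ({y} : Set G)) B = R.card * Nat.card G := by
    rw [← hsum, ← Finset.sum_fiberwise_of_maps_to (g := Prod.fst) hIS]
    refine Finset.sum_congr rfl fun y hy => ?_
    rw [Finset.sum_congr rfl fun i hi => by rw [(Finset.mem_filter.1 hi).2], Finset.sum_const,
      smul_eq_mul, hloc y hy, mul_comm]
  have h2 : (Nat.card G : ℤ) * ((Nat.card B : ℤ) - (blockRank p B : ℤ)) =
      (Nat.card G : ℤ) * (R.card : ℤ) := by
    rw [hcount, mul_comm (Nat.card G : ℤ), ← Nat.cast_mul, ← hnat, Nat.cast_sum]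
    exact Finset.sum_congr rfl fun y _ => by rw [LocalCount.weight, Nat.cast_mul]
  exact mul_left_cancel₀ (Nat.cast_ne_zero.2 Nat.card_pos.ne') h2

end CfsgLib.KleinDefect
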