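import Cfsg.Agent.Lib.KleinDefect.Main
import Cfsg.Agent.Lib.Blk4.RankTwoBound
import Cfsg.Agent.Lib.Characters.NormalAvg
import Cfsg.Agent.Lib.Characters.Values

/-!
# Sign vectors of a block with a Klein four defect group

At an element of even order the values of such a block are combinations, with coefficients
divisible in the local ring, of sign vectors orthogonal to the block on the odd order elements.
-/

set_option autoImplicit false
set_option linter.style.haveILetI false
set_option linter.unusedSectionVars false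
set_option maxHeartbeats 1000000

namespace CfsgLib.KleinDefect

open Cfsg CfsgLib.Characters CfsgLib.Blocks CfsgLib.Contribution CfsgLib.BrauerPairs
  CfsgLib.SubsectionSq
open scoped ComplexConjugate Classical

universe u

variable {G : Type u} [Group G] [Fintype G] {M : Ideal AlgInt} {p : ℕ}

/-- `p ^ d χ(g) / |C(g)|` is locally integral for a character of height zero. -/
theorem height_div_mem (hM : IsPModular p M) {B : Set (IrrCharacter G)} (hB : IsPBlock M B)
    {χ : IrrCharacter G} (hχ : χ ∈ B) (g : G) :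
    MemLocalRing M ((p : ℂ) ^ blockDefect p B * (χ : G → ℂ) g /
      (Nat.card (Subgroup.centralizer ({g} : Set G)) : ℂ)) := by
  set C := Subgroup.centralizer ({g} : Set G)
  set m := Nat.card G / p ^ (Nat.card G).factorization p
  have hcard : (Nat.card C : ℂ) * (C.index : ℂ) =
      (p : ℂ) ^ minExp p B * (p : ℂ) ^ blockDefect p B * (m : ℂ) := by
    rw [← Nat.cast_mul, C.card_mul_index, ← pow_add, minExp_add_defect hM hB]
    exact cast_card_eq
  have hp0 : (p : ℂ) ≠ 0 := Nat.cast_ne_zero.2 hM.1.ne_zero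
  have hC0 : (Nat.card C : ℂ) ≠ 0 := Nat.cast_ne_zero.2 Nat.card_pos.ne'
  have hi0 : (C.index : ℂ) ≠ 0 := Nat.cast_ne_zero.2 Subgroup.index_ne_zero_of_finite
  have hm0 : (m : ℂ) ≠ 0 := fun h => cofactor_not_dvd (G := G) hM.1
    (show p ∣ m from (Nat.cast_eq_zero.1 h : m = 0).symm ▸ dvd_zero p)
  have hr0 : (red p B χ : ℂ) ≠ 0 := Nat.cast_ne_zero.2 (red_pos hχ).ne'
  have heq : (p : ℂ) ^ blockDefect p B * (χ : G → ℂ) g / (Nat.card C : ℂ) =
      centralChar (χ : G → ℂ) g * (red p B χ : ℂ) * ((m : ℕ) : ℂ)⁻¹ := by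
    rw [centralChar, apply_one_red (p := p) hχ]
    field_simp
    linear_combination -(χ : G → ℂ) g * hcard
  rw [heq]
  exact (lRing hM).mul_mem ((lRing hM).mul_mem (centralChar_mem_lRing hM χ g)
    (natCast_mem (lRing hM) _)) (inv_natCast_mem_lRing hM (cofactor_not_dvd hM.1))

/-- A combination of irreducible characters vanishing at the singular elements is divisible by
the `p`-part of the centraliser at the regular ones. -/
theorem vanish_div_mem [Fact p.Prime] (hM : IsPModular p M) (S : Finset (IrrCharacter G))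
    (a : IrrCharacter G → ℂ) (ha : ∀ χ ∈ S, MemLocalRing M (a χ))
    (h0 : ∀ x : G, p ∣ orderOf x → ∑ χ ∈ S, a χ * (χ : G → ℂ) x = 0) {g : G}
    (hg : ¬ p ∣ orderOf g) :
    MemLocalRing M ((∑ χ ∈ S, a χ * (χ : G → ℂ) g) /
      (Nat.card (Subgroup.centralizer ({g} : Set G)) : ℂ)) := by
  have hp : p.Prime := Fact.out
  set C := Subgroup.centralizer ({g} : Set G)
  let T : Sylow p C := default
  set Q : Subgroup G := (T : Subgroup C).map C.subtype
  have hQC : ∀ q ∈ Q, Commute q g := by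
    rintro _ ⟨c, -, rfl⟩
    exact Subgroup.mem_centralizer_singleton_iff.1 c.2
  have hQn : Q ⊔ Subgroup.zpowers g ≤ Subgroup.normalizer (Q : Set G) := by
    refine sup_le Subgroup.le_normalizer (Subgroup.zpowers_le.2 ?_)
    rw [Subgroup.mem_normalizer_iff]
    intro q
    constructor
    · intro hq
      rwa [(hQC q hq).symm.eq, mul_inv_cancel_right]
    · intro hq
      have h := (hQC _ hq).eq
      rw [inv_mul_cancel_right] at h
      have e : g * q * g⁻¹ = q := (mul_left_cancel h).symm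
      rwa [e] at hq
  set E : Subgroup G := Q ⊔ Subgroup.zpowers g
  letI : Fintype E := Fintype.ofFinite E
  haveI : (Q.subgroupOf E).Normal :=
    (Subgroup.normal_subgroupOf_iff_le_normalizer le_sup_left).2 hQn
  letI : Fintype Q := Fintype.ofFinite Q
  letI : Fintype (Q.subgroupOf E) := Fintype.ofFinite _
  have hgE : g ∈ E := Subgroup.mem_sup_right (Subgroup.mem_zpowers g)
  have hint : ∀ χ : IrrCharacter G, MemLocalRing M
      ((Nat.card Q : ℂ)⁻¹ * ∑ q : Q, (χ : G → ℂ) ((q : G) * g)) := by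
    intro χ
    have h := isIntegral_of_isCharacter (CfsgLib.NormalAvg.isCharacter_avgN (Q.subgroupOf E)
      (CfsgLib.Clifford.isCharacter_subtype (irr_isCharacter χ) E)) ⟨g, hgE⟩
    have hQE : Q ≤ E := le_sup_left
    have e : ∑ n : Q.subgroupOf E, (χ : G → ℂ) (((n : E) : G) * g) =
        ∑ q : Q, (χ : G → ℂ) ((q : G) * g) :=
      Fintype.sum_equiv (Subgroup.subgroupOfEquivOfLe hQE).toEquiv _
        (fun q : Q => (χ : G → ℂ) ((q : G) * g)) (fun q => rfl)
    rw [← e, ← Nat.card_congr (Subgroup.subgroupOfEquivOfLe hQE).toEquiv]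
    exact isIntegral_mem_lRing hM h
  have hQp : IsPGroup p Q := T.isPGroup'.map _
  have hF : ∑ q : Q, ∑ χ ∈ S, a χ * (χ : G → ℂ) ((q : G) * g) =
      ∑ χ ∈ S, a χ * (χ : G → ℂ) g := by
    rw [Finset.sum_eq_single (1 : Q) (fun q _ hq => ?_)
      (fun h => absurd (Finset.mem_univ _) h), OneMemClass.coe_one, one_mul]
    apply h0
    obtain ⟨k, hk⟩ := IsPGroup.iff_orderOf.1 hQp q
    have hk0 : k ≠ 0 := fun h => hq (orderOf_eq_one_iff.1 (by rw [hk, h, pow_zero]))
    rw [(hQC q q.2).orderOf_mul_eq_mul_orderOf_of_coprime (by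
      rw [Subgroup.orderOf_coe, hk]
      exact ((hp.coprime_iff_not_dvd).2 hg).pow_left k), Subgroup.orderOf_coe, hk]
    exact dvd_mul_of_dvd_left (dvd_pow_self p hk0) _
  have hQcard : Nat.card Q = p ^ (Nat.card C).factorization p := by
    rw [← T.card_eq_multiplicity]
    exact Subgroup.card_map_of_injective C.subtype_injective
  have hC : (Nat.card C : ℂ) =
      (Nat.card Q : ℂ) * ((Nat.card C / p ^ (Nat.card C).factorization p : ℕ) : ℂ) := by
    rw [hQcard, ← Nat.cast_mul, Nat.ordProj_mul_ordCompl_eq_self]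
  rw [hC, div_mul_eq_div_div, div_eq_mul_inv]
  refine (lRing hM).mul_mem ?_ (inv_natCast_mem_lRing hM (Nat.not_dvd_ordCompl hp Nat.card_pos.ne'))
  rw [← hF, Finset.sum_comm, Finset.sum_div]
  refine (lRing hM).sum_mem fun χ hχ => ?_
  rw [← Finset.mul_sum, mul_div_assoc, div_eq_inv_mul]
  exact (lRing hM).mul_mem (ha χ hχ) (hint χ)

variable [Fact (Nat.Prime 2)]

/-- A sign vector orthogonal to the block on the elements of odd order. -/
def SV (B : Set (IrrCharacter G)) (s : IrrCharacter G → ℤ) : Prop :=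
  (∀ χ ∈ B, s χ = 1 ∨ s χ = -1) ∧
    ∀ g : G, ¬ 2 ∣ orderOf g → ∑ χ ∈ members B, (s χ : ℂ) * (χ : G → ℂ) g = 0

/-- In a block of defect two every member has odd reduced degree. -/
theorem odd_red (hM : IsPModular 2 M) {B : Set (IrrCharacter G)} (hB : IsPBlock M B)
    (hd : blockDefect 2 B = 2) : ∀ χ ∈ B, ¬ 2 ∣ red 2 B χ := fun χ hχ hdvd => by
  haveI : Fintype (ConjClasses G) := Fintype.ofFinite _
  have h := height_bound hM hB hχ 1 one_pos (by rwa [pow_one])
  omega

/-- Two sign vectors agree in an even number of the four places. -/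
theorem four_dvd_sum (hM : IsPModular 2 M) {B : Set (IrrCharacter G)} (hB : IsPBlock M B)
    (hd : blockDefect 2 B = 2) (hk : Nat.card B = 4) {s t : IrrCharacter G → ℤ} (hs : SV B s)
    (ht : SV B t) : (4 : ℤ) ∣ ∑ χ ∈ members B, s χ * t χ := by
  have hsum : ∀ u : IrrCharacter G → ℤ, SV B u →
      ∑ χ ∈ members B, u χ * (red 2 B χ : ℤ) = 0 := by
    intro u hu
    have h := hu.2 1 (by rw [orderOf_one]; norm_num)
    rw [Finset.sum_congr rfl (fun χ hχ => by
      rw [apply_one_red (p := 2) (mem_members.1 hχ)] : ∀ χ ∈ members B,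
        (u χ : ℂ) * (χ : G → ℂ) 1 = (u χ : ℂ) * (((2 : ℕ) : ℂ) ^ minExp 2 B * (red 2 B χ : ℂ))),
      Finset.sum_congr rfl (fun χ _ => mul_left_comm _ _ _), ← Finset.mul_sum,
      mul_eq_zero, or_iff_right (pow_ne_zero _ (by norm_num))] at h
    exact_mod_cast h
  have hdvd : ∀ χ ∈ members B,
      (4 : ℤ) ∣ s χ * t χ - 1 - (s χ * (red 2 B χ : ℤ) - t χ * (red 2 B χ : ℤ)) := by
    intro χ hχ
    have hr := odd_red hM hB hd χ (mem_members.1 hχ)
    rcases hs.1 χ (mem_members.1 hχ) with h1 | h1 <;>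
      rcases ht.1 χ (mem_members.1 hχ) with h2 | h2 <;> rw [h1, h2] <;> omega
  have h := Finset.dvd_sum hdvd
  rw [Finset.sum_sub_distrib, Finset.sum_sub_distrib, Finset.sum_sub_distrib, hsum s hs, hsum t ht,
    Finset.sum_const, ← card_members, hk] at h
  norm_num at h
  omega

/-- The centraliser of an element with given `p`-part, inside the centraliser of that part. -/
theorem card_centralizer_section (hp : p.Prime) {y : G} (hy : ∃ k : ℕ, orderOf y = p ^ k)
    (w : Subgroup.centralizer ({y} : Set G)) (hw : ¬ p ∣ orderOf w) :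
    Nat.card (Subgroup.centralizer ({w} : Set (Subgroup.centralizer ({y} : Set G)))) =
      Nat.card (Subgroup.centralizer ({y * (w : G)} : Set G)) := by
  have hwG : ¬ p ∣ orderOf (w : G) := by rwa [Subgroup.orderOf_coe]
  have hpart := isPPart_mul (commute_centralizer w) hy hwG
  have key : ∀ a : G, a ∈ Subgroup.centralizer ({y * (w : G)} : Set G) →
      a ∈ Subgroup.centralizer ({y} : Set G) ∧ a * (w : G) = w * a := by
    intro a ha
    have h := Subgroup.mem_centralizer_singleton_iff.1 ha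
    have h' : a * (y * w) * a⁻¹ = y * w := by rw [h, mul_inv_cancel_right]
    have hc := IsPPart.conj hpart a
    rw [h'] at hc
    have h1 : a * y = y * a := mul_inv_eq_iff_eq_mul.1 (IsPPart.unique hp hc hpart)
    refine ⟨Subgroup.mem_centralizer_singleton_iff.2 h1, mul_left_cancel (a := y) ?_⟩
    rw [← mul_assoc, ← h1, mul_assoc, h, mul_assoc]
  refine Nat.card_congr
    { toFun := fun a => ⟨((a : Subgroup.centralizer ({y} : Set G)) : G), ?_⟩
      invFun := fun a => ⟨⟨a, (key a a.2).1⟩,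
        Subgroup.mem_centralizer_singleton_iff.2 (Subtype.ext (key a a.2).2)⟩
      left_inv := fun a => rfl
      right_inv := fun a => rfl }
  rw [Subgroup.mem_centralizer_singleton_iff]
  have h1 : ((a : Subgroup.centralizer ({y} : Set G)) : G) * y =
      y * ((a : Subgroup.centralizer ({y} : Set G)) : G) :=
    Subgroup.mem_centralizer_singleton_iff.1 a.1.2
  have h2 : ((a : Subgroup.centralizer ({y} : Set G)) : G) * w =
      w * ((a : Subgroup.centralizer ({y} : Set G)) : G) :=
    congrArg Subtype.val (Subgroup.mem_centralizer_singleton_iff.1 a.2)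
  rw [← mul_assoc, h1, mul_assoc, h2, ← mul_assoc]

/-- The part of the block at one subsection is a multiple of one sign vector. -/
theorem section_sign (hM : IsPModular 2 M) {y : G} (hy : orderOf y = 2)
    {B : Set (IrrCharacter G)} (hdB : blockDefect 2 B = 2) (hk : Nat.card B = 4)
    [Fintype (Subgroup.centralizer ({y} : Set G))]
    {b : Set (IrrCharacter (Subgroup.centralizer ({y} : Set G)))}
    (hind : IsInducedBlock M (Subgroup.centralizer ({y} : Set G)) b B)
    (hdb : blockDefect 2 b = 2) (hl : blockRank 2 b = 1)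
    {w : Subgroup.centralizer ({y} : Set G)} (hw : ¬ 2 ∣ orderOf w) :
    ∃ (s : IrrCharacter G → ℤ) (a : ℂ), SV B s ∧ MemLocalRing M a ∧
      MemLocalRing M (4 * a / (Nat.card (Subgroup.centralizer ({y * (w : G)} : Set G)) : ℂ)) ∧
      ∀ χ ∈ B, blockPart b (sectionFun y (χ : G → ℂ)) w = a * (s χ : ℂ) := by
  have hb := hind.1
  have hB := hind.2.1
  have hyC : y ∈ Subgroup.centralizer ({y} : Set G) := Subgroup.mem_centralizer_singleton_iff.2 rfl
  set z : (Subgroup.centralizer ({y} : Set G)) := ⟨y, hyC⟩ with hz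
  have hzc : z ∈ Subgroup.center (Subgroup.centralizer ({y} : Set G)) := Subgroup.mem_center_iff.2 fun c => Subtype.ext
    (Subgroup.mem_centralizer_singleton_iff.1 c.2)
  have hy2 : ∃ k : ℕ, orderOf y = 2 ^ k := ⟨1, by rw [hy, pow_one]⟩
  set bp : IrrCharacter G → (Subgroup.centralizer ({y} : Set G)) → ℂ := fun χ u => blockPart b (sectionFun y (χ : G → ℂ)) u with hbp
  -- rank one
  obtain ⟨⟨v, hv⟩, -, hspan⟩ := (finrank_eq_one_iff' (K := ℂ)
    (V := Submodule.span ℂ ((fun η : IrrCharacter (Subgroup.centralizer ({y} : Set G)) => pRegularPart 2 (η : (Subgroup.centralizer ({y} : Set G)) → ℂ)) '' b))).1 hl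
  have hprop : ∀ ξ ∈ b, ∃ c : ℂ, pRegularPart 2 (ξ : (Subgroup.centralizer ({y} : Set G)) → ℂ) = c • v := fun ξ hξ => by
    obtain ⟨c, hc⟩ := hspan ⟨_, Submodule.subset_span ⟨ξ, hξ, rfl⟩⟩
    exact ⟨c, (congrArg Subtype.val hc).symm⟩
  choose! c hc using hprop
  set t : IrrCharacter G → ℂ := fun χ => ∑ ξ ∈ Finset.univ.filter (· ∈ b),
    classInner (sectionFun y (χ : G → ℂ)) (ξ : (Subgroup.centralizer ({y} : Set G)) → ℂ) * c ξ with ht
  have hbpt : ∀ χ : IrrCharacter G, ∀ u : (Subgroup.centralizer ({y} : Set G)), ¬ 2 ∣ orderOf u → bp χ u = t χ * v u := by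
    intro χ u hu
    simp only [hbp, ht]
    rw [blockPart_eq_sum, Finset.sum_mul]
    refine Finset.sum_congr rfl fun ξ hξ => ?_
    have h := congrFun (hc ξ (Finset.mem_filter.1 hξ).2) u
    unfold pRegularPart at h
    rw [if_pos (show IsPRegular 2 u from hu), Pi.smul_apply, smul_eq_mul] at h
    rw [h, mul_assoc]
  set K : ℂ := ((2 : ℕ) : ℂ) ^ 2 * (Nat.card (Subgroup.centralizer ({y} : Set G)) : ℂ)⁻¹ *
    ∑ u ∈ Finset.univ.filter (fun u : (Subgroup.centralizer ({y} : Set G)) => ¬ 2 ∣ orderOf u), v u * conj (v u) with hK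
  have hsub : ∀ χ ψ : IrrCharacter G, subContrib 2 2 (Subgroup.centralizer ({y} : Set G)) b y χ ψ = K * (t χ * conj (t ψ)) := by
    intro χ ψ
    rw [subContrib, hK, mul_assoc _ _ (t χ * _), Finset.sum_mul]
    congr 1
    refine Finset.sum_congr rfl fun u hu => ?_
    show bp χ u * conj (bp ψ u) = _
    rw [hbpt χ u (Finset.mem_filter.1 hu).2, hbpt ψ u (Finset.mem_filter.1 hu).2, map_mul]
    ring
  have hh := odd_red hM hB hdB
  have hint : ∀ χ ψ : IrrCharacter G, ∃ n : ℤ, χ ∈ B → ψ ∈ B →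
      Odd n ∧ subContrib 2 2 (Subgroup.centralizer ({y} : Set G)) b y χ ψ = (n : ℂ) := fun χ ψ => by
    by_cases h : χ ∈ B ∧ ψ ∈ B
    · obtain ⟨n, h1, h2⟩ := exists_odd_contrib hM hy rfl hind (hdb.trans hdB.symm) hh h.1 h.2
      rw [hdb] at h2
      exact ⟨n, fun _ _ => ⟨h1, h2⟩⟩
    · exact ⟨0, fun h1 h2 => absurd ⟨h1, h2⟩ h⟩
  choose n hn using hint
  have hpos : ∀ χ ∈ B, 0 ≤ n χ χ := by
    intro χ hχ
    have hre : ((n χ χ : ℤ) : ℝ) = (subContrib 2 2 (Subgroup.centralizer ({y} : Set G)) b y χ χ).re := by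
      rw [(hn χ χ hχ hχ).2]; simp
    have h0 : (0 : ℝ) ≤ ((n χ χ : ℤ) : ℝ) := by
      rw [hre, subContrib]
      simp only [Complex.mul_conj]
      rw [← Complex.ofReal_sum,
        show ((2 : ℕ) : ℂ) ^ 2 * (Nat.card (Subgroup.centralizer ({y} : Set G)) : ℂ)⁻¹ =
          (((2 : ℕ) ^ 2 * (Nat.card (Subgroup.centralizer ({y} : Set G)) : ℝ)⁻¹ : ℝ) : ℂ) by push_cast; rfl,
        ← Complex.ofReal_mul, Complex.ofReal_re]
      exact mul_nonneg (by positivity) (Finset.sum_nonneg fun u _ => Complex.normSq_nonneg _)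
    exact_mod_cast h0
  have htr : ∑ χ ∈ members B, n χ χ = 4 := by
    have h := SubsectionTrace.sum_diag hM 2 hy2 (rfl : (Subgroup.centralizer ({y} : Set G)) = _) hind
    rw [hl, Finset.sum_congr rfl fun χ hχ => (hn χ χ (Finset.mem_filter.1 hχ).2
      (Finset.mem_filter.1 hχ).2).2] at h
    norm_num at h
    have h' : ((∑ χ ∈ members B, n χ χ : ℤ) : ℂ) = 4 := by push_cast; exact h
    exact_mod_cast h'
  have hone : ∀ χ ∈ B, n χ χ = 1 := by
    intro χ hχ
    have hge : ∀ φ ∈ members B, 1 ≤ n φ φ := fun φ hφ => by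
      obtain ⟨i, hi⟩ := (hn φ φ (mem_members.1 hφ) (mem_members.1 hφ)).1
      have := hpos φ (mem_members.1 hφ)
      omega
    have h0 : ∀ φ ∈ members B, (0 : ℤ) ≤ n φ φ - 1 := fun φ hφ => by have := hge φ hφ; omega
    have h1 : ∑ φ ∈ members B, (n φ φ - 1) = 0 := by
      rw [Finset.sum_sub_distrib, htr, Finset.sum_const, ← card_members, hk]; norm_num
    have := (Finset.sum_eq_zero_iff_of_nonneg h0).1 h1 χ (mem_members.2 hχ)
    omega
  obtain ⟨χ₀, hχ₀⟩ := IsPBlock.nonempty hM hB
  have h00 : K * (t χ₀ * conj (t χ₀)) = 1 := by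
    rw [← hsub, (hn χ₀ χ₀ hχ₀ hχ₀).2, hone χ₀ hχ₀, Int.cast_one]
  set s : IrrCharacter G → ℤ := fun χ => n χ χ₀ with hs
  have hts : ∀ χ ∈ B, t χ = (s χ : ℂ) * t χ₀ := by
    intro χ hχ
    rw [show (s χ : ℂ) = subContrib 2 2 (Subgroup.centralizer ({y} : Set G)) b y χ χ₀ from (hn χ χ₀ hχ hχ₀).2.symm, hsub]
    linear_combination -(t χ) * h00
  have hsign : ∀ χ ∈ B, s χ = 1 ∨ s χ = -1 := by
    intro χ hχ
    have h1 : ((s χ : ℤ) : ℂ) * ((s χ : ℤ) : ℂ) = 1 := by
      have h := hsub χ χ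
      rw [(hn χ χ hχ hχ).2, hone χ hχ, hts χ hχ, map_mul, map_intCast, Int.cast_one] at h
      linear_combination -h - (s χ : ℂ) * (s χ : ℂ) * h00
    exact mul_self_eq_one_iff.1 (by exact_mod_cast h1)
  refine ⟨s, bp χ₀ w, ⟨hsign, ?_⟩, ?_, ?_, fun χ hχ => ?_⟩
  · intro g hg
    by_contra hne
    have hzero : ∀ u : (Subgroup.centralizer ({y} : Set G)), ¬ 2 ∣ orderOf u → bp χ₀ u = 0 := by
      intro u hu
      have hsing : ∀ c : (Subgroup.centralizer ({y} : Set G)), ¬ 2 ∣ orderOf c →
          (∑ χ : members B, ((χ : IrrCharacter G) : G → ℂ) g *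
            sectionFun y ((χ : IrrCharacter G) : G → ℂ) c) = 0 := by
        intro c hc
        have hpart := isPPart_mul (commute_centralizer c) hy2
          (show ¬ 2 ∣ orderOf (c : G) by rwa [Subgroup.orderOf_coe])
        have h2 : 2 ∣ orderOf ((y * (c : G))⁻¹) := by
          rw [orderOf_inv, (commute_centralizer c).orderOf_mul_eq_mul_orderOf_of_coprime
            (by rw [hy, Subgroup.orderOf_coe]; exact (Nat.prime_two.coprime_iff_not_dvd).2 hc), hy]
          exact dvd_mul_right 2 _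
        have h := weak_orth hM hB hg h2
        rw [← h, Finset.sum_coe_sort (members B) (fun χ : IrrCharacter G => (χ : G → ℂ) g *
          sectionFun y (χ : G → ℂ) c)]
        refine Finset.sum_congr rfl fun χ _ => ?_
        rw [irr_apply_inv, Complex.conj_conj]
        rfl
      have h := blockPart_congr_regular hM hb (g := fun _ => (0 : ℂ)) hsing hu
      rw [blockPart_linear b (fun χ : members B => ((χ : IrrCharacter G) : G → ℂ) g)
        (fun χ : members B => sectionFun y ((χ : IrrCharacter G) : G → ℂ)) u,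
        Finset.sum_coe_sort (members B) (fun χ : IrrCharacter G => (χ : G → ℂ) g * bp χ u)] at h
      have h0 : blockPart b (fun _ : (Subgroup.centralizer ({y} : Set G)) => (0 : ℂ)) u = 0 := by
        simp [blockPart_eq_sum, classInner]
      rw [h0, Finset.sum_congr rfl (fun χ hχ => by
        rw [hbpt χ u hu, hts χ (mem_members.1 hχ), hbpt χ₀ u hu]; ring : ∀ χ ∈ members B,
          (χ : G → ℂ) g * bp χ u = (s χ : ℂ) * (χ : G → ℂ) g * bp χ₀ u), ← Finset.sum_mul] at h
      exact (mul_eq_zero.1 h).resolve_left hne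
    have hzero' : subContrib 2 2 (Subgroup.centralizer ({y} : Set G)) b y χ₀ χ₀ = 0 := by
      rw [subContrib, Finset.sum_eq_zero fun u hu => ?_, mul_zero]
      show bp χ₀ u * _ = 0
      rw [hzero u (Finset.mem_filter.1 hu).2, zero_mul]
    rw [(hn χ₀ χ₀ hχ₀ hχ₀).2, hone χ₀ hχ₀] at hzero'
    norm_num at hzero'
  all_goals
    obtain ⟨m, hm⟩ : ∃ m : IrrCharacter (Subgroup.centralizer ({y} : Set G)) → ℕ,
        ∀ ξ : IrrCharacter (Subgroup.centralizer ({y} : Set G)),
        classInner (fun c : (Subgroup.centralizer ({y} : Set G)) => (χ₀ : G → ℂ) c) (ξ : (Subgroup.centralizer ({y} : Set G)) → ℂ) = m ξ :=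
      ⟨fun ξ => (exists_mult_res χ₀ ξ).choose, fun ξ => (exists_mult_res χ₀ ξ).choose_spec⟩
    have hform : bp χ₀ w = ∑ ξ ∈ Finset.univ.filter (· ∈ b),
        ((ξ : (Subgroup.centralizer ({y} : Set G)) → ℂ) z / (ξ : (Subgroup.centralizer ({y} : Set G)) → ℂ) 1 * (m ξ : ℂ)) * (ξ : (Subgroup.centralizer ({y} : Set G)) → ℂ) w := by
      simp only [hbp]
      rw [blockPart_eq_sum]
      refine Finset.sum_congr rfl fun ξ _ => ?_
      rw [show sectionFun y (χ₀ : G → ℂ) = fun c : (Subgroup.centralizer ({y} : Set G)) => (χ₀ : G → ℂ) (((z : (Subgroup.centralizer ({y} : Set G))) : G) * c) from rfl,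
        classInner_shift hzc, hm]
    have hr : ∀ ξ : IrrCharacter (Subgroup.centralizer ({y} : Set G)), MemLocalRing M ((ξ : (Subgroup.centralizer ({y} : Set G)) → ℂ) z / (ξ : (Subgroup.centralizer ({y} : Set G)) → ℂ) 1 * (m ξ : ℂ)) := by
      intro ξ
      refine (lRing hM).mul_mem ?_ (natCast_mem (lRing hM) _)
      refine isIntegral_mem_lRing hM (IsIntegral.of_pow two_pos ?_)
      have hz2 : z ^ 2 = 1 := Subtype.ext (by
        rw [SubgroupClass.coe_pow, OneMemClass.coe_one, hz, ← hy, pow_orderOf_eq_one])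
      rw [← apply_central_pow ξ hzc, hz2, div_self (irr_one_ne_zero ξ)]
      exact isIntegral_one
  · rw [hform]
    exact (lRing hM).sum_mem fun ξ _ => (lRing hM).mul_mem (hr ξ)
      (isIntegral_mem_lRing hM (CfsgLib.ClassCount.irr_isIntegral ξ w))
  · rw [hform, Finset.mul_sum, Finset.sum_div]
    refine (lRing hM).sum_mem fun ξ hξ => ?_
    have h := height_div_mem hM hb (Finset.mem_filter.1 hξ).2 w
    rw [hdb, card_centralizer_section Nat.prime_two hy2 w hw] at h
    rw [mul_left_comm, mul_div_assoc]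
    refine (lRing hM).mul_mem (hr ξ) ?_
    norm_num [-Nat.card_eq_fintype_card] at h
    exact h
  · show bp χ w = _
    rw [hbpt χ w hw, hts χ hχ, hbpt χ₀ w hw]
    ring

end CfsgLib.KleinDefect
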