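import Cfsg.Agent.Lib.Blk7.CardPowDefect
import Cfsg.Agent.Lib.Blk7.DefectOneTwo
import Cfsg.Agent.Lib.Blocks12.Bounds

/-!
# 2-blocks of defect two with a major subsection of rank one have four characters
-/

set_option autoImplicit false
set_option linter.unusedSectionVars false
set_option maxHeartbeats 800000

namespace CfsgLib.KleinDefect

open Cfsg CfsgLib.Characters CfsgLib.Blocks CfsgLib.Contribution CfsgLib.SubsectionSq
open scoped ComplexConjugate Classical

universe u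

variable {G : Type u} [Group G] [Fintype G] {M : Ideal AlgInt}

/-- A block of defect at most two of a group with a central involution has rank at most one. -/
theorem blockRank_le_one_of_central [Fact (Nat.Prime 2)] (hM : IsPModular 2 M) {C : Type u} [Group C]
    [Fintype C] {z : C} (hz : z ∈ Subgroup.center C) (hzo : orderOf z = 2)
    {b : Set (IrrCharacter C)} (hb : IsPBlock M b) (hd : blockDefect 2 b ≤ 2) :
    blockRank 2 b ≤ 1 := by
  set N := Subgroup.zpowers z with hN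
  have hNc : N ≤ Subgroup.center C := Subgroup.zpowers_le.2 hz
  haveI : N.Normal := ⟨fun a ha g => by
    rwa [Subgroup.mem_center_iff.1 (hNc ha) g, mul_inv_cancel_right]⟩
  have hNcard : Nat.card N = 2 := by rw [hN, Nat.card_zpowers, hzo]
  have hNp : IsPGroup 2 N := IsPGroup.of_card (n := 1) (by rw [hNcard, pow_one])
  letI : Fintype (C ⧸ N) := Fintype.ofFinite _
  letI : Fintype (ConjClasses (C ⧸ N)) := Fintype.ofFinite _
  have hβ := CentralQuot.isPBlock_quotBlock N hNp hNc hM hb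
  have hdβ := CentralQuot.blockDefect_quotBlock_add_le N hNp hNc hM hb
  rw [hNcard, Nat.prime_two.factorization_self] at hdβ
  refine (CentralQuot.blockRank_le_quot N hNp hNc hM hb).trans ?_
  set β := CentralQuot.quotBlock N b
  rcases (show blockDefect 2 β = 0 ∨ blockDefect 2 β = 1 by omega) with h0 | h1
  · have h := card_bound hM hβ
    rw [h0, Nat.mul_zero, pow_zero] at h
    exact (RankOrth.blockRank_le _).trans (by omega)
  · obtain ⟨χ, hχ⟩ := IsPBlock.nonempty hM hβ
    obtain ⟨ψ, -, -, hset, hreg, -, -⟩ := Blk7.defect_one_block hM hβ h1 hχ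
    rw [blockRank]
    refine le_trans (Submodule.finrank_mono (t := ℂ ∙ pRegularPart 2 (χ : C ⧸ N → ℂ)) ?_) ?_
    · rw [Submodule.span_le]
      rintro _ ⟨φ, hφ, rfl⟩
      rw [hset] at hφ
      rcases hφ with rfl | rfl
      · exact Submodule.mem_span_singleton_self _
      · have : pRegularPart 2 (φ : C ⧸ N → ℂ) = pRegularPart 2 (χ : C ⧸ N → ℂ) := by
          funext g
          unfold pRegularPart IsPRegular
          by_cases hg : 2 ∣ orderOf g
          · rw [if_neg (not_not.2 hg), if_neg (not_not.2 hg)]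
          · rw [if_pos hg, if_pos hg, hreg g hg]
        show pRegularPart 2 (φ : C ⧸ N → ℂ) ∈ _
        rw [this]
        exact Submodule.mem_span_singleton_self _
    · exact (finrank_span_le_card _).trans (by simp)

variable {C : Subgroup G} [Fintype C]

/-- The contributions at a major subsection of an involution are odd integers. -/
theorem exists_odd_contrib [Fact (Nat.Prime 2)] (hM : IsPModular 2 M) {y : G} (hy : orderOf y = 2)
    (hC : C = Subgroup.centralizer ({y} : Set G)) {B : Set (IrrCharacter G)}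
    {b : Set (IrrCharacter C)} (hind : IsInducedBlock M C b B)
    (hd : blockDefect 2 b = blockDefect 2 B) (hh : ∀ χ ∈ B, ¬ 2 ∣ red 2 B χ)
    {χ ψ : IrrCharacter G} (hχ : χ ∈ B) (hψ : ψ ∈ B) :
    ∃ c : ℤ, Odd c ∧ subContrib 2 (blockDefect 2 b) C b y χ ψ = (c : ℂ) := by
  have := hM.2.1
  haveI : Fintype (ConjClasses C) := Fintype.ofFinite _
  have hb := hind.1
  have hyC : y ∈ C := hC ▸ Subgroup.mem_centralizer_singleton_iff.2 rfl
  set z : C := ⟨y, hyC⟩ with hz
  have hzc : z ∈ Subgroup.center C := Subgroup.mem_center_iff.2 fun c => Subtype.ext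
    (Subgroup.mem_centralizer_singleton_iff.1 (hC ▸ c.2 : (c : G) ∈ _))
  have hz2 : z ^ 2 = 1 := Subtype.ext (by
    rw [SubgroupClass.coe_pow, OneMemClass.coe_one, hz, ← hy, pow_orderOf_eq_one])
  set r : IrrCharacter C → ℂ := fun ξ => (ξ : C → ℂ) z / (ξ : C → ℂ) 1 with hr
  have hrs : ∀ ξ, ∃ s : ℤ, Odd s ∧ r ξ = (s : ℂ) := fun ξ => by
    have h2 : r ξ ^ 2 = 1 := by
      rw [hr, ← apply_central_pow ξ hzc, hz2, div_self (irr_one_ne_zero ξ)]
    rcases sq_eq_one_iff.1 h2 with h | h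
    · exact ⟨1, odd_one, by rw [h, Int.cast_one]⟩
    · exact ⟨-1, odd_neg_one, by rw [h]; norm_num⟩
  choose s hso hs using hrs
  choose m hm using fun (φ : IrrCharacter G) (ξ : IrrCharacter C) => exists_mult_res φ ξ
  set bF := Finset.univ.filter (· ∈ b) with hbF
  have hpart : ∀ (φ : IrrCharacter G) (u : C),
      blockPart b (fun c : C => (φ : G → ℂ) (y * c)) u =
        ∑ ξ ∈ bF, (m φ ξ : ℂ) * r ξ * (ξ : C → ℂ) u := by
    intro φ u
    rw [blockPart_eq_sum]
    refine Finset.sum_congr rfl fun ξ _ => ?_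
    rw [show (fun c : C => (φ : G → ℂ) (y * c)) =
        fun c : C => (φ : G → ℂ) (((z : C) : G) * c) from rfl,
      classInner_shift hzc, hm, hr]
    ring
  set c₀ : ℤ := ∑ ξ ∈ bF, ∑ η ∈ bF, (m χ ξ : ℤ) * (m ψ η : ℤ) * contribInt 2 b ξ η
  set c : ℤ := ∑ ξ ∈ bF, ∑ η ∈ bF, (m χ ξ : ℤ) * (m ψ η : ℤ) * contribInt 2 b ξ η * (s ξ * s η)
    with hc
  refine ⟨c, ?_, ?_⟩
  · rw [← Int.not_even_iff_odd, even_iff_two_dvd]
    intro hdvd
    have hc₀ : (2 : ℤ) ∣ c₀ := by
      have hdiff : (2 : ℤ) ∣ c - c₀ := by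
        simp only [hc, c₀, ← Finset.sum_sub_distrib]
        refine Finset.dvd_sum fun ξ _ => Finset.dvd_sum fun η _ => ?_
        rw [← mul_sub_one]
        exact (even_iff_two_dvd.1 (((hso ξ).mul (hso η)).sub_odd odd_one)).mul_left _
      simpa using dvd_sub hdvd hdiff
    obtain ⟨η₀, hη₀, hη₀u, -⟩ := Contribution.exists_height_zero hM hb
    have hτ := tfac_unit hM hb hη₀ hη₀u hη₀
    have hQ : Subgroup.zpowers y ≤ BrauerPairs.cz (Subgroup.zpowers y) := fun g hg =>
      BrauerPairs.mem_cz.2 fun a ha => by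
        obtain ⟨i, rfl⟩ := Subgroup.mem_zpowers_iff.1 hg
        obtain ⟨l, rfl⟩ := Subgroup.mem_zpowers_iff.1 ha
        rw [← zpow_add, ← zpow_add, add_comm]
    have hQp : IsPGroup 2 (Subgroup.zpowers y) :=
      IsPGroup.of_card (n := 1) (by rw [Nat.card_zpowers, hy, pow_one])
    have hCQ : C = BrauerPairs.cz (Subgroup.zpowers y) := by
      rw [hC, BrauerPairs.cz, Subgroup.zpowers_eq_closure, Subgroup.centralizer_closure]
    set T : IrrCharacter G → ℕ := fun φ => ∑ ξ ∈ bF, m φ ξ * red 2 b ξ with hT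
    have hTi : ∀ φ ∈ B, ¬ MemLocalIdeal M (T φ : ℂ) := fun φ hφ h =>
      not_dvd_resDegree hM hQp hQ hCQ hind hd hφ (hh φ hφ) (m φ) (hm φ)
        ((memLocalIdeal_natCast_iff hM _).1 h)
    have h2 : MemLocalIdeal M ((red 2 b η₀ : ℂ) * (c₀ : ℂ) -
        (T χ : ℂ) * (T ψ : ℂ) * tfac 2 η₀ η₀) := by
      have e : (red 2 b η₀ : ℂ) * (c₀ : ℂ) - (T χ : ℂ) * (T ψ : ℂ) * tfac 2 η₀ η₀ =
          ∑ ξ ∈ bF, ∑ η ∈ bF, (m χ ξ : ℂ) * (m ψ η : ℂ) *
            ((red 2 b η₀ : ℂ) * (contribInt 2 b ξ η : ℂ) -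
              (red 2 b ξ : ℂ) * (red 2 b η : ℂ) * tfac 2 η₀ η₀) := by
        simp only [hT, c₀, Nat.cast_sum, Nat.cast_mul, Int.cast_sum, Int.cast_mul, Int.cast_natCast]
        rw [Finset.sum_mul_sum, Finset.sum_mul, Finset.mul_sum]
        simp only [Finset.sum_mul, Finset.mul_sum, ← Finset.sum_sub_distrib]
        exact Finset.sum_congr rfl fun ξ _ => Finset.sum_congr rfl fun η _ => by ring
      rw [e]
      exact MemLocalIdeal.sum hM _ fun ξ hξ => MemLocalIdeal.sum hM _ fun η hη =>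
        MemLocalIdeal.mul_left hM
          ((lRing hM).mul_mem (natCast_mem (lRing hM) _) (natCast_mem (lRing hM) _))
          (red_mul_contribInt_congr hM hb hη₀ (Finset.mem_filter.1 hξ).2 (Finset.mem_filter.1 hη).2)
    have h1 : MemLocalIdeal M (c₀ : ℂ) := (memLocalIdeal_intCast_iff hM _).2 (by exact_mod_cast hc₀)
    have h3 : MemLocalIdeal M ((T χ : ℂ) * (T ψ : ℂ) * tfac 2 η₀ η₀) := by
      simpa using MemLocalIdeal.sub hM
        (MemLocalIdeal.mul_left hM (natCast_mem (lRing hM) (red 2 b η₀)) h1) h2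
    exact BlockCover.not_memLocalIdeal_mul hM
      ((lRing hM).mul_mem (natCast_mem (lRing hM) _) (natCast_mem (lRing hM) _))
      (tfac_mem hM _ _)
      (BlockCover.not_memLocalIdeal_mul hM (natCast_mem (lRing hM) _) (natCast_mem (lRing hM) _)
        (hTi χ hχ) (hTi ψ hψ)) hτ h3
  · rw [subContrib, hc]
    simp only [hpart, map_sum, map_mul, Complex.conj_natCast, Finset.sum_mul_sum]
    simp only [Finset.mul_sum, Int.cast_sum]
    rw [Finset.sum_comm]
    refine Finset.sum_congr rfl fun ξ hξ => ?_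
    rw [Finset.sum_comm]
    refine Finset.sum_congr rfl fun η hη => ?_
    simp only [Int.cast_mul, Int.cast_natCast]
    rw [contribInt_cast hM hb ξ (Finset.mem_filter.1 hη).2, contrib, Contribution.regSum]
    simp only [hs, map_intCast, Finset.mul_sum, Finset.sum_mul]
    exact Finset.sum_congr rfl fun u _ => by ring

theorem two_odd_sq_ne (e f : ℤ) (he : Odd e) (hf : Odd f) : e ^ 2 + f ^ 2 ≠ 6 := by
  intro h
  have h1 : -2 ≤ e ∧ e ≤ 2 := by constructor <;> nlinarith [sq_nonneg f]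
  have h2 : -2 ≤ f ∧ f ≤ 2 := by constructor <;> nlinarith [sq_nonneg e]
  obtain ⟨i, rfl⟩ := he
  obtain ⟨j, rfl⟩ := hf
  rcases (show i = -1 ∨ i = 0 by omega) with rfl | rfl <;>
    rcases (show j = -1 ∨ j = 0 by omega) with rfl | rfl <;> norm_num at h

/-- The elementary count: odd integers with trace four and square sum sixteen. -/
theorem card_eq_four_of_matrix {ι : Type*} [DecidableEq ι] (S : Finset ι) (hk : S.card ≤ 4)
    (c : ι → ι → ℤ) (hodd : ∀ i ∈ S, ∀ j ∈ S, Odd (c i j)) (hpos : ∀ i ∈ S, 0 ≤ c i i)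
    (htr : ∑ i ∈ S, c i i = 4) (hsq : ∑ i ∈ S, ∑ j ∈ S, c i j ^ 2 = 16) : S.card = 4 := by
  have heven : (2 : ℤ) ∣ (S.card : ℤ) := by
    have h : (2 : ℤ) ∣ ∑ i ∈ S, (c i i - 1) := Finset.dvd_sum fun i hi =>
      even_iff_two_dvd.1 ((hodd i hi i hi).sub_odd odd_one)
    rw [Finset.sum_sub_distrib, htr, Finset.sum_const, nsmul_eq_mul, mul_one] at h
    omega
  rcases (show S.card = 0 ∨ S.card = 2 ∨ S.card = 4 by omega) with h | h | h
  · rw [Finset.card_eq_zero.1 h, Finset.sum_empty] at htr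
    norm_num at htr
  · exfalso
    obtain ⟨a, b, hab, rfl⟩ := Finset.card_eq_two.1 h
    simp only [Finset.sum_pair hab] at htr hsq
    have ha : a ∈ ({a, b} : Finset ι) := by simp
    have hb : b ∈ ({a, b} : Finset ι) := by simp
    obtain ⟨i, hi⟩ := hodd a ha a ha
    obtain ⟨j, hj⟩ := hodd b hb b hb
    have h1 := hpos a ha
    have h2 := hpos b hb
    refine two_odd_sq_ne (c a b) (c b a) (hodd a ha b hb) (hodd b hb a ha) ?_
    rcases (show (i = 0 ∧ j = 1) ∨ (i = 1 ∧ j = 0) by omega) with ⟨rfl, rfl⟩ | ⟨rfl, rfl⟩ <;>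
      (rw [hi, hj] at hsq; linarith)
  · exact h

/-- A 2-block of defect two with a major subsection of rank one has four characters. -/
theorem card_eq_four [Fact (Nat.Prime 2)] (hM : IsPModular 2 M) {B : Set (IrrCharacter G)}
    (hdB : blockDefect 2 B = 2) {y : G} (hy : orderOf y = 2)
    (hC : C = Subgroup.centralizer ({y} : Set G)) {b : Set (IrrCharacter C)}
    (hind : IsInducedBlock M C b B) (hdb : blockDefect 2 b = 2) (hl : blockRank 2 b = 1) :
    Nat.card B = 4 := by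
  haveI : Fintype (ConjClasses G) := Fintype.ofFinite _
  have hB := hind.2.1
  have hk : Nat.card B ≤ 2 ^ 2 := (CardPowDefect.card_le_aux hM 2 G B hB hdB).1 le_rfl
  have hh : ∀ χ ∈ B, ¬ 2 ∣ red 2 B χ := fun χ hχ hdvd => by
    have h := height_bound hM hB hχ 1 one_pos (by rwa [pow_one])
    omega
  set BF := Finset.univ.filter (· ∈ B) with hBF
  have hcard : Nat.card B = BF.card := by
    rw [hBF, ← Fintype.card_subtype, ← Nat.card_eq_fintype_card]
  have hc : ∀ χ ψ : IrrCharacter G, ∃ c : ℤ, χ ∈ B → ψ ∈ B →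
      Odd c ∧ subContrib 2 2 C b y χ ψ = (c : ℂ) := fun χ ψ => by
    by_cases h : χ ∈ B ∧ ψ ∈ B
    · obtain ⟨c, h1, h2⟩ := exists_odd_contrib hM hy hC hind (hdb.trans hdB.symm) hh h.1 h.2
      rw [hdb] at h2
      exact ⟨c, fun _ _ => ⟨h1, h2⟩⟩
    · exact ⟨0, fun h1 h2 => absurd ⟨h1, h2⟩ h⟩
  choose c hc using hc
  have hm : ∀ χ ∈ BF, χ ∈ B := fun χ h => (Finset.mem_filter.1 h).2
  rw [hcard] at hk ⊢
  refine card_eq_four_of_matrix BF (by simpa using hk) c
    (fun i hi j hj => (hc i j (hm i hi) (hm j hj)).1) (fun i hi => ?_) ?_ ?_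
  · have h := (hc i i (hm i hi) (hm i hi)).2
    have hre : ((c i i : ℤ) : ℝ) = (subContrib 2 2 C b y i i).re := by rw [h]; simp
    have h0 : (0 : ℝ) ≤ ((c i i : ℤ) : ℝ) := by
      rw [hre, subContrib]
      simp only [Complex.mul_conj]
      rw [← Complex.ofReal_sum,
        show ((2 : ℕ) : ℂ) ^ 2 * (Nat.card C : ℂ)⁻¹ =
          (((2 : ℕ) ^ 2 * (Nat.card C : ℝ)⁻¹ : ℝ) : ℂ) by push_cast; rfl,
        ← Complex.ofReal_mul, Complex.ofReal_re]
      exact mul_nonneg (by positivity) (Finset.sum_nonneg fun u _ => Complex.normSq_nonneg _)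
    exact_mod_cast h0
  · have h := SubsectionTrace.sum_diag hM 2 (x := y) ⟨1, by rw [hy, pow_one]⟩ hC hind
    rw [hl, Finset.sum_congr rfl fun χ hχ => (hc χ χ (hm χ hχ) (hm χ hχ)).2] at h
    norm_num at h
    exact_mod_cast h
  · have h := SubsectionSq.sum_sq hM 2 (x := y) ⟨1, by rw [hy, pow_one]⟩ hC hind
    rw [hl, Finset.sum_congr rfl fun χ hχ => Finset.sum_congr rfl fun ψ hψ => by
      rw [(hc χ ψ (hm χ hχ) (hm ψ hψ)).2, map_intCast, ← sq]] at h
    norm_num at h
    exact_mod_cast h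

end CfsgLib.KleinDefect
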