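import Cfsg.Agent.Lib.KleinDefect.SignVectors

/-!
# Perfect isometries between blocks with a Klein four defect group
-/

set_option autoImplicit false
set_option linter.style.haveILetI false
set_option linter.unusedSectionVars false
set_option maxHeartbeats 1000000

namespace CfsgLib.KleinDefect

open Cfsg CfsgLib.Characters CfsgLib.Blocks CfsgLib.Contribution CfsgLib.BrauerPairs
  CfsgLib.CyclicDefectBound
open scoped ComplexConjugate Classical

universe u v

variable {G : Type u} [Group G] [Fintype G] {M : Ideal AlgInt} [Fact (Nat.Prime 2)]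

/-- The values of the block at an element of even order are combinations of sign vectors. -/
def Decomp (M : Ideal AlgInt) (B : Set (IrrCharacter G)) : Prop :=
  ∀ h : G, 2 ∣ orderOf h → ∃ (ι : Type u) (S : Finset ι) (a : ι → ℂ)
    (s : ι → IrrCharacter G → ℤ),
    (∀ i ∈ S, SV B (s i) ∧ MemLocalRing M (a i) ∧
      MemLocalRing M (4 * a i / (Nat.card (Subgroup.centralizer ({h} : Set G)) : ℂ))) ∧
    ∀ χ ∈ B, (χ : G → ℂ) h = ∑ i ∈ S, a i * (s i χ : ℂ)

/-- The subsections of a block with Klein four defect group. -/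
theorem section_local [M.IsMaximal] (hM : IsPModular 2 M) {B : Set (IrrCharacter G)}
    (hB : IsPBlock M B) {P : Subgroup G} (hD : IsDefectGroup 2 M B P) (hV : IsKleinFour P)
    {e : MonoidAlgebra (ResK M) G} (he : IsBlockIdem (cz P) e)
    (hcov : brMap (ResK M) P (eG hM B) * e = e) {y : G} (hy : ∃ k : ℕ, orderOf y = 2 ^ k)
    (hy1 : y ≠ 1) [Fintype (Subgroup.centralizer ({y} : Set G))]
    {b : Set (IrrCharacter (Subgroup.centralizer ({y} : Set G)))}
    (hb : IsInducedBlock M (Subgroup.centralizer ({y} : Set G)) b B) :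
    orderOf y = 2 ∧ blockDefect 2 b = 2 ∧ blockRank 2 b = 1 := by
  have := charP_res hM
  obtain ⟨h4, hsq, hord, hPp, hab⟩ := klein_props hV
  have hPc : P ≤ cz P := fun x hx => mem_cz.2 fun w hw => hab w hw x hx
  obtain ⟨n, hn⟩ := hy
  set Q := Subgroup.zpowers y with hQ
  have hK : Subgroup.centralizer ({y} : Set G) = cz Q := centralizer_singleton_eq y
  have hQp : IsPGroup 2 Q := IsPGroup.of_card (by rw [hQ, Nat.card_zpowers, hn])
  have hQK : Q ≤ Subgroup.centralizer ({y} : Set G) :=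
    Subgroup.zpowers_le.2 (Subgroup.mem_centralizer_singleton_iff.2 rfl)
  have hbI : IsBlockIdem (cz Q) (eA hM _ b) := hK ▸ isBlockIdem_eA hM hb.1
  have hO : OverPair 2 (⊥ : Subgroup G) (eG hM B) ⊤ Q (eA hM _ b) :=
    ⟨hQp, bot_le, le_top, hbI, cover_of_induced hM hQp hQK hK.ge hb hbI
      (by rw [brMap_eq_self hbI.supp, hbI.idem])⟩
  obtain ⟨g, -, hg⟩ := (brSetup_block hM hB).exists_conj_le (hasBlocks hM) hO
    ((isDefectGroup_iff hM hB P).1 hD) ⟨hPp, bot_le, le_top, he, hcov⟩
  have hle := hg.conj g⁻¹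
  rw [← conjPair_mul, inv_mul_cancel, conjPair_one] at hle
  set P' := P.map (MulAut.conj g⁻¹).toMonoidHom with hP'
  set e' := conjA g⁻¹ e with he'def
  have hPp' : IsPGroup 2 P' := hPp.map _
  have he' : IsBlockIdem (cz P') e' := by
    rw [hP', cz_map_conj]; exact he.conjA g⁻¹
  have hPc' : P' ≤ cz P' := by
    rw [hP', cz_map_conj]; exact Subgroup.map_mono hPc
  have hcov' : brMap (ResK M) P' (eG hM B) * e' = e' := by
    have hfix : conjA g⁻¹ (eG hM B) = eG hM B :=
      (isBlockIdem_eG hM hB).fixed g⁻¹ (Subgroup.mem_top _)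
    conv_lhs => rw [← hfix]
    rw [hP', he'def, ← conjA_brMap, ← conjA_mul, hcov]
  have hQP' : Q ≤ P' := hle.le
  have hy2 : orderOf y = 2 := by
    obtain ⟨v, hv, hvy⟩ := hQP' (Subgroup.mem_zpowers y)
    rw [← hvy, MulEquiv.coe_toMonoidHom, MulEquiv.orderOf_eq]
    refine hord v hv fun h1 => hy1 ?_
    rw [← hvy, h1, map_one]
  obtain ⟨f, hf, hfle, -, -, -, hfD, -⟩ := exists_local_block (Q := Q)
    (K := Subgroup.centralizer ({y} : Set G)) hM hB (BlockCover.isDefectGroup_conj hM hB hD g⁻¹)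
    hPc' he' hcov' hQP' hK
  obtain rfl : f = b :=
    eA_inj hM hf hb.1 (pairLE_unique (hasBlocks hM) (b := (P', e')) he' hPp' hfle hle)
  have hPK : P' ≤ Subgroup.centralizer ({y} : Set G) := hK ▸ hPc'.trans (cz_anti hQP')
  have hd : blockDefect 2 f = 2 := Nat.pow_right_injective le_rfl
    (show 2 ^ blockDefect 2 f = 2 ^ 2 by
      rw [← BlockCover.natCard_defect hM hf hfD,
        Nat.card_congr (Subgroup.subgroupOfEquivOfLe hPK).toEquiv, hP',
        Subgroup.card_map_of_injective (MulAut.conj g⁻¹).injective, h4])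
  refine ⟨hy2, hd, le_antisymm ?_ (one_le_blockRank hM hf)⟩
  refine blockRank_le_one_of_central hM (z := ⟨y, hQK (Subgroup.mem_zpowers y)⟩) ?_ ?_ hf hd.le
  · exact Subgroup.mem_center_iff.2 fun a => Subtype.ext
      (Subgroup.mem_centralizer_singleton_iff.1 a.2)
  · rw [← Subgroup.orderOf_coe]; exact hy2

/-- A class function is the sum of its parts over the blocks. -/
theorem sum_blockPart {H : Type u} [Group H] [Fintype H] (hM : IsPModular 2 M) {f : H → ℂ}
    (hf : IsClassFunction H f) (x : H) :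
    f x = ∑ b ∈ (Finset.univ : Finset (IrrCharacter H)).image
      (fun ξ : IrrCharacter H => blockOf M (ξ : H → ℂ)), blockPart b f x := by
  conv_lhs => rw [classFunction_eq_sum hf, Finset.sum_apply]
  rw [← Finset.sum_fiberwise_of_maps_to
    (fun (ξ : IrrCharacter H) (_ : ξ ∈ Finset.univ) =>
      Finset.mem_image_of_mem (fun η : IrrCharacter H => blockOf M (η : H → ℂ)) (Finset.mem_univ ξ))]
  refine Finset.sum_congr rfl fun b hb => ?_
  obtain ⟨η, -, rfl⟩ := Finset.mem_image.1 hb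
  rw [blockPart_eq_sum]
  refine Finset.sum_congr ?_ fun ξ _ => by rw [Pi.smul_apply, smul_eq_mul]
  ext ξ
  simp only [Finset.mem_filter, Finset.mem_univ, true_and]
  exact ⟨fun h => h ▸ mem_blockOf_self hM ξ,
    fun h => (IsPBlock.eq_blockOf hM (isPBlock_blockOf η) h).symm⟩

/-- A block with Klein four defect group decomposes into sign vectors off the regular elements. -/
theorem decomp_of_klein [M.IsMaximal] (hM : IsPModular 2 M) {B : Set (IrrCharacter G)}
    (hB : IsPBlock M B) {P : Subgroup G} (hD : IsDefectGroup 2 M B P) (hV : IsKleinFour P)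
    {e : MonoidAlgebra (ResK M) G} (he : IsBlockIdem (cz P) e)
    (hcov : brMap (ResK M) P (eG hM B) * e = e) (hdB : blockDefect 2 B = 2)
    (hk : Nat.card B = 4) : Decomp M B := by
  intro h hh
  obtain ⟨y, hyP⟩ := exists_isPPart (G := G) Nat.prime_two h
  obtain ⟨w, hyw, hcomm, hy, hw⟩ := hyP
  have hy1 : y ≠ 1 := fun h1 => hw (by rwa [← hyw, h1, one_mul] at hh)
  letI : Fintype (Subgroup.centralizer ({y} : Set G)) := Fintype.ofFinite _
  let wC : Subgroup.centralizer ({y} : Set G) :=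
    ⟨w, Subgroup.mem_centralizer_singleton_iff.2 hcomm.eq.symm⟩
  have hwC : ¬ 2 ∣ orderOf wC := by rwa [← Subgroup.orderOf_coe]
  let T : Finset (Set (IrrCharacter (Subgroup.centralizer ({y} : Set G)))) :=
    ((Finset.univ : Finset (IrrCharacter (Subgroup.centralizer ({y} : Set G)))).image
      (fun ξ : IrrCharacter (Subgroup.centralizer ({y} : Set G)) =>
        blockOf M (ξ : Subgroup.centralizer ({y} : Set G) → ℂ))).filter
      (fun b => IsInducedBlock M (Subgroup.centralizer ({y} : Set G)) b B)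
  have hdat : ∀ b : Set (IrrCharacter (Subgroup.centralizer ({y} : Set G))),
      ∃ (s : IrrCharacter G → ℤ) (a : ℂ), b ∈ T → SV B s ∧ MemLocalRing M a ∧
        MemLocalRing M (4 * a / (Nat.card (Subgroup.centralizer ({h} : Set G)) : ℂ)) ∧
        ∀ χ ∈ B, blockPart b (sectionFun y (χ : G → ℂ)) wC = a * (s χ : ℂ) := by
    intro b
    by_cases hbT : b ∈ T
    · have hind := (Finset.mem_filter.1 hbT).2
      obtain ⟨hy2, hdb, hl⟩ := section_local hM hB hD hV he hcov hy hy1 hind
      obtain ⟨s, a, h1, h2, h3, h4⟩ := section_sign hM hy2 hdB hk hind hdb hl hwC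
      exact ⟨s, a, fun _ => ⟨h1, h2, by rwa [show y * (wC : G) = h from hyw] at h3, h4⟩⟩
    · exact ⟨fun _ => 1, 0, fun h' => absurd h' hbT⟩
  choose s a hsa using hdat
  refine ⟨_, T, a, s, fun b hb => ⟨(hsa b hb).1, (hsa b hb).2.1, (hsa b hb).2.2.1⟩,
    fun χ hχ => ?_⟩
  rw [show (χ : G → ℂ) h = sectionFun y (χ : G → ℂ) wC by rw [← hyw]; rfl,
    sum_blockPart hM (isClassFunction_sectionFun (irr_isClassFunction χ)) wC]
  rw [← Finset.sum_filter_add_sum_filter_not _
    (fun b => IsInducedBlock M (Subgroup.centralizer ({y} : Set G)) b B)]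
  rw [Finset.sum_eq_zero (s := Finset.filter (fun b => ¬ _) _) fun b hb => ?_, add_zero]
  · exact Finset.sum_congr rfl fun b hb => (hsa b hb).2.2.2 χ hχ
  · obtain ⟨h1, h2⟩ := Finset.mem_filter.1 hb
    obtain ⟨ξ, -, rfl⟩ := Finset.mem_image.1 h1
    exact blockPart_sectionFun_eq_zero hM hy (isPBlock_blockOf ξ)
      (IsPBlock.eq_blockOf hM hB hχ ▸ h2) hwC

variable {H : Type v} [Group H] [Fintype H]

theorem kernel_eq (c : Set (IrrCharacter H)) (I : IrrCharacter H → IrrCharacter G)
    (ε : IrrCharacter H → ℤ) (x : G) (y : H) :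
    signedBijectionKernel c I ε x y =
      ∑ η ∈ members c, (ε η : ℂ) * (I η : G → ℂ) x * (η : H → ℂ) y := by
  rw [signedBijectionKernel]
  exact finsum_mem_eq_finite_toFinset_sum _ (Set.toFinite c) |>.trans
    (Finset.sum_congr (by ext η; simp [members]) fun η _ => rfl)

/-- The criterion for a signed bijection to be perfect. -/
theorem isPerfectFun_kernel (hM : IsPModular 2 M) {B : Set (IrrCharacter G)}
    {c : Set (IrrCharacter H)} (hc : IsPBlock M c) (hdc : blockDefect 2 c = 2)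
    (hkc : Nat.card c = 4) (hDB : Decomp M B) (hDc : Decomp M c)
    {I : IrrCharacter H → IrrCharacter G} (hI : Set.BijOn I c B) {ε : IrrCharacter H → ℤ}
    (hT1 : ∀ s, SV B s → SV c (fun η => ε η * s (I η)))
    (hT2 : ∀ s, SV c s → ∀ x : G, ¬ 2 ∣ orderOf x →
      ∑ η ∈ members c, (ε η : ℂ) * (s η : ℂ) * (I η : G → ℂ) x = 0) :
    IsPerfectFun 2 M (signedBijectionKernel c I ε) := by
  have hleft : ∀ (x : G) (y : H), 2 ∣ orderOf x → ¬ 2 ∣ orderOf y →
      signedBijectionKernel c I ε x y = 0 := by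
    intro x y hx hy
    obtain ⟨ι, S, a, s, hS, hval⟩ := hDB x hx
    rw [kernel_eq, Finset.sum_congr rfl (fun η hη => by
      rw [hval (I η) (hI.mapsTo (mem_members.1 hη)), Finset.mul_sum, Finset.sum_mul] :
      ∀ η ∈ members c, (ε η : ℂ) * (I η : G → ℂ) x * (η : H → ℂ) y =
        ∑ i ∈ S, (ε η : ℂ) * (a i * (s i (I η) : ℂ)) * (η : H → ℂ) y), Finset.sum_comm]
    refine Finset.sum_eq_zero fun i hi => ?_
    rw [← mul_zero (a i), ← (hT1 _ (hS i hi).1).2 y hy, Finset.mul_sum]
    exact Finset.sum_congr rfl fun η _ => by push_cast; ring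
  have hright : ∀ (x : G) (y : H), ¬ 2 ∣ orderOf x → 2 ∣ orderOf y →
      signedBijectionKernel c I ε x y = 0 := by
    intro x y hx hy
    obtain ⟨ι, S, a, s, hS, hval⟩ := hDc y hy
    rw [kernel_eq, Finset.sum_congr rfl (fun η hη => by
      rw [hval η (mem_members.1 hη), Finset.mul_sum] :
      ∀ η ∈ members c, (ε η : ℂ) * (I η : G → ℂ) x * (η : H → ℂ) y =
        ∑ i ∈ S, (ε η : ℂ) * (I η : G → ℂ) x * (a i * (s i η : ℂ))), Finset.sum_comm]
    refine Finset.sum_eq_zero fun i hi => ?_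
    rw [← mul_zero (a i), ← hT2 _ (hS i hi).1 x hx, Finset.mul_sum]
    exact Finset.sum_congr rfl fun η _ => by ring
  intro x y
  by_cases hx : 2 ∣ orderOf x <;> by_cases hy : 2 ∣ orderOf y
  · obtain ⟨ι, S, a, s, hS, hval⟩ := hDB x hx
    obtain ⟨κ, T, a', s', hT, hval'⟩ := hDc y hy
    have h4 : ∀ i ∈ S, ∀ j ∈ T, ∃ k : ℤ,
        (∑ η ∈ members c, ε η * s i (I η) * s' j η) = 4 * k := fun i hi j hj =>
      four_dvd_sum hM hc hdc hkc (hT1 _ (hS i hi).1) (hT j hj).1
    have hmu : signedBijectionKernel c I ε x y = ∑ i ∈ S, ∑ j ∈ T, a i * a' j *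
        ((∑ η ∈ members c, ε η * s i (I η) * s' j η : ℤ) : ℂ) := by
      rw [kernel_eq, Finset.sum_congr rfl (fun η hη => by
        rw [hval (I η) (hI.mapsTo (mem_members.1 hη)), hval' η (mem_members.1 hη),
          Finset.mul_sum (a := (ε η : ℂ)), Finset.sum_mul_sum] :
        ∀ η ∈ members c, (ε η : ℂ) * (I η : G → ℂ) x * (η : H → ℂ) y =
          ∑ i ∈ S, ∑ j ∈ T, (ε η : ℂ) * (a i * (s i (I η) : ℂ)) * (a' j * (s' j η : ℂ))),
        Finset.sum_comm]
      refine Finset.sum_congr rfl fun i _ => ?_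
      rw [Finset.sum_comm]
      refine Finset.sum_congr rfl fun j _ => ?_
      rw [Int.cast_sum, Finset.mul_sum]
      exact Finset.sum_congr rfl fun η _ => by push_cast; ring
    refine ⟨?_, ?_, Or.inl (iff_of_false (not_not.2 hx) (not_not.2 hy))⟩
    all_goals
      rw [hmu, Finset.sum_div]
      refine (lRing hM).sum_mem fun i hi => ?_
      rw [Finset.sum_div]
      refine (lRing hM).sum_mem fun j hj => ?_
      obtain ⟨k, hk⟩ := h4 i hi j hj
      rw [hk, Int.cast_mul, Int.cast_ofNat]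
    · rw [show ∀ N : ℂ, a i * a' j * (4 * (k : ℂ)) / N = 4 * a i / N * a' j * (k : ℂ) from
        fun N => by ring]
      exact (lRing hM).mul_mem ((lRing hM).mul_mem (hS i hi).2.2 (hT j hj).2.1)
        (intCast_mem (lRing hM) k)
    · rw [show ∀ N : ℂ, a i * a' j * (4 * (k : ℂ)) / N = 4 * a' j / N * a i * (k : ℂ) from
        fun N => by ring]
      exact (lRing hM).mul_mem ((lRing hM).mul_mem (hT j hj).2.2 (hS i hi).2.1)
        (intCast_mem (lRing hM) k)
  · rw [hleft x y hx hy, zero_div, zero_div]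
    exact ⟨(lRing hM).zero_mem, (lRing hM).zero_mem, Or.inr rfl⟩
  · rw [hright x y hx hy, zero_div, zero_div]
    exact ⟨(lRing hM).zero_mem, (lRing hM).zero_mem, Or.inr rfl⟩
  · refine ⟨?_, ?_, Or.inl (iff_of_true hx hy)⟩
    · haveI : Nonempty (IrrCharacter H) :=
        ⟨(Blocks.IsPBlock.nonempty hM hc).some⟩
      let J := Function.invFunOn I c
      have hm : ∀ z : G, signedBijectionKernel c I ε z y = ∑ χ ∈ (members c).image I,
          (ε (J χ) : ℂ) * (J χ : H → ℂ) y * (χ : G → ℂ) z := by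
        intro z
        rw [kernel_eq, Finset.sum_image fun a ha b hb h =>
          hI.injOn (mem_members.1 ha) (mem_members.1 hb) h]
        refine Finset.sum_congr rfl fun η hη => ?_
        rw [show J (I η) = η from hI.injOn.leftInvOn_invFunOn (mem_members.1 hη)]
        ring
      rw [hm]
      refine vanish_div_mem hM _ _ (fun χ _ => (lRing hM).mul_mem (intCast_mem (lRing hM) _)
        (isIntegral_mem_lRing hM (CfsgLib.ClassCount.irr_isIntegral (J χ) y))) (fun z hz => ?_) hx
      rw [← hm]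
      exact hleft z y hz hy
    · have hm : ∀ z : H, signedBijectionKernel c I ε x z = ∑ η ∈ members c,
          (ε η : ℂ) * (I η : G → ℂ) x * (η : H → ℂ) z := kernel_eq c I ε x
      rw [hm]
      refine vanish_div_mem hM _ _ (fun η _ => (lRing hM).mul_mem (intCast_mem (lRing hM) _)
        (isIntegral_mem_lRing hM (CfsgLib.ClassCount.irr_isIntegral (I η) x))) (fun z hz => ?_) hy
      rw [← hm]
      exact hright x z hx hz

/-- In a block of rank one the characters agree on the elements of odd order. -/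
theorem regular_eq_of_rank_one (hM : IsPModular 2 M) {B : Set (IrrCharacter G)}
    (hB : IsPBlock M B) (hd : blockDefect 2 B = 2) (hk : Nat.card B = 4)
    (hl : blockRank 2 B = 1) {χ ψ : IrrCharacter G} (hχ : χ ∈ B) (hψ : ψ ∈ B) {g : G}
    (hg : ¬ 2 ∣ orderOf g) : (χ : G → ℂ) g = (ψ : G → ℂ) g := by
  haveI : Fintype (ConjClasses G) := Fintype.ofFinite _
  have hodd := odd_red hM hB hd
  have hne : ∀ φ ∈ members B, ∀ φ' ∈ members B, 1 ≤ contribInt 2 B φ φ' ^ 2 := fun φ hφ φ' hφ' => by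
    have h := contribInt_zero_ne hM hB (mem_members.1 hφ) (hodd φ (mem_members.1 hφ))
      (mem_members.1 hφ')
    have h0 : 0 < contribInt 2 B φ φ' ^ 2 := by positivity
    omega
  have hrow : ∀ φ ∈ members B, (1 : ℤ) ≤ contribInt 2 B φ φ := fun φ hφ => by
    have h := contribInt_row hM hB (mem_members.1 hφ)
    have h1 := Finset.card_nsmul_le_sum (members B) (fun φ' => contribInt 2 B φ φ' ^ 2) 1 (hne φ hφ)
    rw [nsmul_eq_mul, mul_one, ← card_members, hk, h, hd] at h1
    norm_num at h1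
    omega
  have htr : ∑ φ ∈ members B, contribInt 2 B φ φ = 4 := by
    have h := Blk4.RankTwo.contrib_trace hM hB (blockDefect 2 B)
    rw [Finset.sum_congr rfl fun φ hφ =>
      (contribInt_cast hM hB φ (Finset.mem_filter.1 hφ).2).symm, hl, hd] at h
    norm_num at h
    have h' : ((∑ φ ∈ members B, contribInt 2 B φ φ : ℤ) : ℂ) = 4 := by push_cast; exact h
    exact_mod_cast h'
  have hone : ∀ φ ∈ B, contrib 2 2 φ φ = 1 := fun φ hφ => by
    have h0 : ∀ φ' ∈ members B, (0 : ℤ) ≤ contribInt 2 B φ' φ' - 1 := fun φ' h => by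
      have := hrow φ' h
      omega
    have h1 : ∑ φ' ∈ members B, (contribInt 2 B φ' φ' - 1) = 0 := by
      rw [Finset.sum_sub_distrib, htr, Finset.sum_const, ← card_members, hk]; norm_num
    have h2 := (Finset.sum_eq_zero_iff_of_nonneg h0).1 h1 φ (mem_members.2 hφ)
    rw [show contrib 2 2 φ φ = contrib 2 (blockDefect 2 B) φ φ by rw [hd],
      ← contribInt_cast hM hB φ hφ, show contribInt 2 B φ φ = 1 by omega, Int.cast_one]
  obtain ⟨⟨v, hv⟩, -, hspan⟩ := (finrank_eq_one_iff' (K := ℂ)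
    (V := Submodule.span ℂ ((fun φ : IrrCharacter G => pRegularPart 2 (φ : G → ℂ)) '' B))).1 hl
  have hprop : ∀ φ ∈ B, ∃ c : ℂ, ∀ x : G, ¬ 2 ∣ orderOf x → (φ : G → ℂ) x = c * v x := by
    intro φ hφ
    obtain ⟨c, hc⟩ := hspan ⟨_, Submodule.subset_span ⟨φ, hφ, rfl⟩⟩
    refine ⟨c, fun x hx => ?_⟩
    have h := congrFun (congrArg Subtype.val hc).symm x
    simp only [SetLike.val_smul, Pi.smul_apply, smul_eq_mul] at h
    rwa [pRegularPart, if_pos (show IsPRegular 2 x from hx)] at h
  obtain ⟨a, ha⟩ := hprop χ hχ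
  obtain ⟨b, hb⟩ := hprop ψ hψ
  have h1 : ¬ 2 ∣ orderOf (1 : G) := by rw [orderOf_one]; norm_num
  set r : ℂ := (χ : G → ℂ) 1 / (ψ : G → ℂ) 1 with hr
  have hψ1 := irr_one_ne_zero ψ
  have hrel : ∀ x : G, ¬ 2 ∣ orderOf x → (χ : G → ℂ) x = r * (ψ : G → ℂ) x := fun x hx => by
    rw [hr, div_mul_eq_mul_div, eq_div_iff hψ1, ha 1 h1, hb 1 h1, ha x hx, hb x hx]
    ring
  obtain ⟨nχ, hnχ, hnχ'⟩ : ∃ n : ℕ, 0 < n ∧ (χ : G → ℂ) 1 = (n : ℂ) :=
    ⟨2 ^ minExp 2 B * red 2 B χ, Nat.mul_pos (by positivity) (red_pos hχ), by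
      rw [apply_one_red (p := 2) hχ]; push_cast; rfl⟩
  obtain ⟨nψ, hnψ, hnψ'⟩ : ∃ n : ℕ, 0 < n ∧ (ψ : G → ℂ) 1 = (n : ℂ) :=
    ⟨2 ^ minExp 2 B * red 2 B ψ, Nat.mul_pos (by positivity) (red_pos hψ), by
      rw [apply_one_red (p := 2) hψ]; push_cast; rfl⟩
  have hrreal : conj r = r := by
    rw [hr, hnχ', hnψ', map_div₀, Complex.conj_natCast, Complex.conj_natCast]
  have hsq : r * r = 1 := by
    have h := hone χ hχ
    have h' := hone ψ hψ
    rw [contrib, Contribution.regSum] at h h'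
    rw [Finset.sum_congr rfl fun x hx => by
      rw [hrel x (Finset.mem_filter.1 hx).2, map_mul, hrreal, mul_mul_mul_comm],
      ← Finset.mul_sum, mul_left_comm, h', mul_one] at h
    exact h
  have hr1 : r = 1 := by
    rcases mul_self_eq_one_iff.1 hsq with h | h
    · exact h
    · exfalso
      rw [hr, div_eq_iff hψ1, hnχ', hnψ'] at h
      have h' : ((nχ + nψ : ℕ) : ℂ) = 0 := by push_cast; rw [h]; ring
      have h'' : nχ + nψ = 0 := by exact_mod_cast h'
      omega
  rw [hrel g hg, hr1, one_mul]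

/-- The sign vectors of a block of rank three. -/
theorem exists_unique_sv (hM : IsPModular 2 M) {B : Set (IrrCharacter G)}
    (hB : IsPBlock M B) (hk : Nat.card B = 4) (hl : blockRank 2 B = 3) (hDB : Decomp M B) :
    ∃ d, SV B d ∧ ∀ s, SV B s →
      (∀ χ ∈ B, s χ = d χ) ∨ ∀ χ ∈ B, s χ = - d χ := by
  set L : (members B → ℂ) →ₗ[ℂ] G → ℂ :=
    Fintype.linearCombination ℂ (fun χ : members B => pRegularPart 2 ((χ : IrrCharacter G) : G → ℂ))
    with hL
  have hdom : Module.finrank ℂ (members B → ℂ) = 4 := by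
    rw [Module.finrank_fintype_fun_eq_card, Fintype.card_coe, ← card_members, hk]
  have hrange : Module.finrank ℂ (LinearMap.range L) = 3 := by
    rw [← hl, blockRank, hL, Fintype.range_linearCombination]
    rw [show Set.range (fun χ : members B => pRegularPart 2 ((χ : IrrCharacter G) : G → ℂ)) =
      (fun χ : IrrCharacter G => pRegularPart 2 (χ : G → ℂ)) '' B from Set.ext fun f => by
        simp [mem_members]]
  have hker : Module.finrank ℂ (LinearMap.ker L) = 1 := by
    have h := LinearMap.finrank_range_add_finrank_ker L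
    omega
  have hLval : ∀ (u : IrrCharacter G → ℂ) (x : G), L (fun χ => u χ) x =
      if 2 ∣ orderOf x then 0 else ∑ χ ∈ members B, u χ * (χ : G → ℂ) x := by
    intro u x
    rw [hL, Fintype.linearCombination_apply, Finset.sum_apply]
    rw [Finset.sum_congr rfl (fun χ _ => Pi.smul_apply _ _ _ : ∀ χ ∈ (Finset.univ : Finset (members B)),
      (u χ • pRegularPart 2 ((χ : IrrCharacter G) : G → ℂ)) x =
        u χ • pRegularPart 2 ((χ : IrrCharacter G) : G → ℂ) x)]
    rw [Finset.sum_coe_sort (members B)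
      (fun χ : IrrCharacter G => u χ • pRegularPart 2 (χ : G → ℂ) x)]
    by_cases hx : 2 ∣ orderOf x <;> simp [pRegularPart, IsPRegular, hx]
  have hSVker : ∀ s : IrrCharacter G → ℤ, SV B s →
      (fun χ : members B => (s χ : ℂ)) ∈ LinearMap.ker L := fun s hs => by
    rw [LinearMap.mem_ker]
    funext x
    rw [hLval (fun χ => (s χ : ℂ)) x, Pi.zero_apply]
    split_ifs with hx
    · rfl
    · exact hs.2 x hx
  obtain ⟨d, hd⟩ : ∃ d, SV B d := by
    by_contra hcon
    have hno : ∀ s, ¬ SV B s := fun s hs => hcon ⟨s, hs⟩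
    have hvan : ∀ χ ∈ B, ∀ x : G, 2 ∣ orderOf x → (χ : G → ℂ) x = 0 := fun χ hχ x hx => by
      obtain ⟨ι, S, a, s, hS, hval⟩ := hDB x hx
      rw [hval χ hχ]
      exact Finset.sum_eq_zero fun i hi => absurd (hS i hi).1 (hno _)
    obtain ⟨⟨w, hw⟩, hw0, -⟩ := (finrank_eq_one_iff' (K := ℂ) (V := LinearMap.ker L)).1 hker
    refine hw0 (Subtype.ext (funext fun χ₀ => ?_))
    let u : IrrCharacter G → ℂ := fun χ => if h : χ ∈ members B then w ⟨χ, h⟩ else 0
    have hwu : w = fun χ : members B => u χ := funext fun χ => by simp [u]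
    have hzero : ∀ x : G, ∑ χ ∈ members B, u χ * (χ : G → ℂ) x = 0 := by
      intro x
      by_cases hx : 2 ∣ orderOf x
      · exact Finset.sum_eq_zero fun χ hχ => by rw [hvan χ (mem_members.1 hχ) x hx, mul_zero]
      · have h := congrFun (LinearMap.mem_ker.1 hw) x
        rwa [hwu, hLval, if_neg hx] at h
    have h2 : ∑ χ ∈ members B, u χ * classInner (χ : G → ℂ) ((χ₀ : IrrCharacter G) : G → ℂ) = 0 := by
      calc _ = (Nat.card G : ℂ)⁻¹ * ∑ x : G, (∑ χ ∈ members B, u χ * (χ : G → ℂ) x) *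
            conj (((χ₀ : IrrCharacter G) : G → ℂ) x) := by
            simp only [classInner, Finset.mul_sum, Finset.sum_mul]
            rw [Finset.sum_comm]
            exact Finset.sum_congr rfl fun x _ => Finset.sum_congr rfl fun χ _ => by ring
        _ = 0 := by simp [hzero]
    simp only [classInner_irr, mul_ite, mul_one, mul_zero] at h2
    rw [Finset.sum_ite_eq', if_pos χ₀.2] at h2
    simpa [hwu] using h2
  refine ⟨d, hd, fun s hs => ?_⟩
  have hd0 : (⟨_, hSVker d hd⟩ : LinearMap.ker L) ≠ 0 := by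
    intro h
    obtain ⟨χ, hχ⟩ := Blocks.IsPBlock.nonempty hM hB
    have h' := congrFun (congrArg Subtype.val h) ⟨χ, mem_members.2 hχ⟩
    simp only [ZeroMemClass.coe_zero, Pi.zero_apply, Int.cast_eq_zero] at h'
    rcases hd.1 χ hχ with h1 | h1 <;> omega
  obtain ⟨c, hc⟩ := (finrank_eq_one_iff_of_nonzero' _ hd0).1 hker ⟨_, hSVker s hs⟩
  have hsc : ∀ χ ∈ B, (s χ : ℂ) = c * (d χ : ℂ) := fun χ hχ => by
    have h := congrFun (congrArg Subtype.val hc) ⟨χ, mem_members.2 hχ⟩
    simpa using h.symm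
  obtain ⟨χ, hχ⟩ := Blocks.IsPBlock.nonempty hM hB
  have hc1 : c = 1 ∨ c = -1 := by
    have h := hsc χ hχ
    rcases hd.1 χ hχ with h1 | h1 <;> rcases hs.1 χ hχ with h2 | h2 <;> rw [h1, h2] at h <;>
      push_cast at h <;>
      first
      | exact Or.inl (by linear_combination h)
      | exact Or.inl (by linear_combination -h)
      | exact Or.inr (by linear_combination h)
      | exact Or.inr (by linear_combination -h)
  rcases hc1 with rfl | rfl
  · exact Or.inl fun χ hχ => by exact_mod_cast (hsc χ hχ).trans (one_mul _)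
  · exact Or.inr fun χ hχ => by exact_mod_cast (hsc χ hχ).trans (neg_one_mul _)

/-- Two Klein four blocks with equal rank are perfectly isometric. -/
theorem exists_perfect_isometry (hM : IsPModular 2 M) {B : Set (IrrCharacter G)}
    {c : Set (IrrCharacter H)} (hB : IsPBlock M B) (hc : IsPBlock M c)
    (hdB : blockDefect 2 B = 2) (hdc : blockDefect 2 c = 2) (hkB : Nat.card B = 4)
    (hkc : Nat.card c = 4) (hDB : Decomp M B) (hDc : Decomp M c)
    (hl : blockRank 2 B = blockRank 2 c) (hl13 : blockRank 2 c = 1 ∨ blockRank 2 c = 3) :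
    ∃ (I : IrrCharacter H → IrrCharacter G) (ε : IrrCharacter H → ℤ),
      IsPerfectIsometry 2 M c B I ε := by
  let f : members c ≃ members B := Finset.equivOfCardEq (by
    rw [← card_members, ← card_members, hkB, hkc])
  obtain ⟨χ₀, hχ₀⟩ := Blocks.IsPBlock.nonempty hM hB
  let I : IrrCharacter H → IrrCharacter G := fun η =>
    if h : η ∈ members c then (f ⟨η, h⟩ : IrrCharacter G) else χ₀
  have hI : Set.BijOn I c B := by
    refine ⟨fun η hη => ?_, fun η hη η' hη' h => ?_, fun χ hχ => ?_⟩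
    · simp only [I, dif_pos (mem_members.2 hη)]
      exact mem_members.1 (f ⟨η, mem_members.2 hη⟩).2
    · simp only [I, dif_pos (mem_members.2 hη), dif_pos (mem_members.2 hη')] at h
      exact congrArg Subtype.val (f.injective (Subtype.ext h))
    · refine ⟨f.symm ⟨χ, mem_members.2 hχ⟩, mem_members.1 (f.symm _).2, ?_⟩
      simp only [I, dif_pos (f.symm ⟨χ, mem_members.2 hχ⟩).2]
      simp
  have himg : ∀ F : IrrCharacter G → ℂ,
      ∑ η ∈ members c, F (I η) = ∑ χ ∈ members B, F χ := fun F =>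
    Finset.sum_nbij I (fun η hη => mem_members.2 (hI.mapsTo (mem_members.1 hη)))
      (fun η hη η' hη' h => hI.injOn (mem_members.1 hη) (mem_members.1 hη') h)
      (fun χ hχ => by
        obtain ⟨η, hη, rfl⟩ := hI.surjOn (mem_members.1 hχ)
        exact ⟨η, mem_members.2 hη, rfl⟩) (fun η _ => rfl)
  obtain ⟨η₀, hη₀⟩ := Blocks.IsPBlock.nonempty hM hc
  rcases hl13 with h1 | h3
  · have hB1 := hl.trans h1
    have h1o : ∀ {A : Type u} [Group A], ¬ 2 ∣ orderOf (1 : A) := by
      intro A _; rw [orderOf_one]; norm_num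
    refine ⟨I, fun _ => 1, hI, fun _ _ => Or.inl rfl,
      isPerfectFun_kernel hM hc hdc hkc hDB hDc hI (fun s hs => ⟨fun η hη => ?_, fun y hy => ?_⟩)
        (fun s hs x hx => ?_)⟩
    · simp only [one_mul]; exact hs.1 _ (hI.mapsTo hη)
    · have h0 : ∑ χ ∈ members B, (s χ : ℂ) = 0 := by
        have h := hs.2 1 h1o
        rw [Finset.sum_congr rfl fun χ hχ => by
          rw [regular_eq_of_rank_one hM hB hdB hkB hB1 (mem_members.1 hχ) hχ₀ h1o],
          ← Finset.sum_mul] at h
        exact (mul_eq_zero.1 h).resolve_right (irr_one_ne_zero χ₀)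
      rw [Finset.sum_congr rfl fun η hη => by
        simp only [one_mul]
        rw [regular_eq_of_rank_one hM hc hdc hkc h1 (mem_members.1 hη) hη₀ hy],
        ← Finset.sum_mul, himg (fun χ => (s χ : ℂ)), h0, zero_mul]
    · have h0 : ∑ η ∈ members c, (s η : ℂ) = 0 := by
        have h1' : ¬ 2 ∣ orderOf (1 : H) := by rw [orderOf_one]; norm_num
        have h := hs.2 1 h1'
        rw [Finset.sum_congr rfl fun η hη => by
          rw [regular_eq_of_rank_one hM hc hdc hkc h1 (mem_members.1 hη) hη₀ h1'],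
          ← Finset.sum_mul] at h
        exact (mul_eq_zero.1 h).resolve_right (irr_one_ne_zero η₀)
      rw [Finset.sum_congr rfl fun η hη => by
        rw [regular_eq_of_rank_one hM hB hdB hkB hB1 (hI.mapsTo (mem_members.1 hη)) hχ₀ hx,
          Int.cast_one, one_mul], ← Finset.sum_mul, h0, zero_mul]
  · obtain ⟨d, hd, hdu⟩ := exists_unique_sv hM hB hkB (hl.trans h3) hDB
    obtain ⟨d', hd', hdu'⟩ := exists_unique_sv hM hc hkc h3 hDc
    have hsq : ∀ η ∈ c, d (I η) * d (I η) = 1 := fun η hη => by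
      rcases hd.1 _ (hI.mapsTo hη) with h | h <;> rw [h] <;> norm_num
    have hsq' : ∀ η ∈ c, d' η * d' η = 1 := fun η hη => by
      rcases hd'.1 _ hη with h | h <;> rw [h] <;> norm_num
    refine ⟨I, fun η => d' η * d (I η), hI, fun η hη => ?_,
      isPerfectFun_kernel hM hc hdc hkc hDB hDc hI (fun s hs => ?_) (fun s hs x hx => ?_)⟩
    · rcases hd.1 _ (hI.mapsTo hη) with h | h <;> rcases hd'.1 _ hη with h' | h' <;>
        simp [h, h']
    · obtain ⟨σ, hσ, hσs⟩ : ∃ σ : ℤ, (σ = 1 ∨ σ = -1) ∧ ∀ χ ∈ B, s χ = σ * d χ := by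
        rcases hdu s hs with h | h
        · exact ⟨1, Or.inl rfl, fun χ hχ => by rw [h χ hχ, one_mul]⟩
        · exact ⟨-1, Or.inr rfl, fun χ hχ => by rw [h χ hχ, neg_one_mul]⟩
      have hval : ∀ η ∈ c, d' η * d (I η) * s (I η) = σ * d' η := fun η hη => by
        rw [hσs _ (hI.mapsTo hη)]
        linear_combination σ * d' η * hsq η hη
      refine ⟨fun η hη => ?_, fun y hy => ?_⟩
      · beta_reduce
        rw [hval η hη]
        rcases hσ with rfl | rfl <;> rcases hd'.1 _ hη with h | h <;> simp [h]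
      · rw [Finset.sum_congr rfl fun η hη => by
          beta_reduce
          rw [hval η (mem_members.1 hη), Int.cast_mul, mul_assoc], ← Finset.mul_sum, hd'.2 y hy,
          mul_zero]
    · obtain ⟨σ, -, hσs⟩ : ∃ σ : ℤ, (σ = 1 ∨ σ = -1) ∧ ∀ η ∈ c, s η = σ * d' η := by
        rcases hdu' s hs with h | h
        · exact ⟨1, Or.inl rfl, fun η hη => by rw [h η hη, one_mul]⟩
        · exact ⟨-1, Or.inr rfl, fun η hη => by rw [h η hη, neg_one_mul]⟩
      have hval : ∀ η ∈ c, d' η * d (I η) * s η = σ * d (I η) := fun η hη => by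
        rw [hσs _ hη]
        linear_combination σ * d (I η) * hsq' η hη
      rw [Finset.sum_congr rfl fun η hη => by
        rw [← Int.cast_mul, hval η (mem_members.1 hη), Int.cast_mul, mul_assoc], ← Finset.mul_sum,
        himg (fun χ => (d χ : ℂ) * (χ : G → ℂ) x), hd.2 x hx, mul_zero]

end CfsgLib.KleinDefect
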