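import Cfsg.Agent.Lib.KleinDefect.Contrib
import Cfsg.Agent.Lib.KleinDefect.Pairs
import Mathlib.GroupTheory.Perm.Cycle.Type
import Mathlib.GroupTheory.SpecificGroups.KleinFour

/-!
# Blocks with a Klein four defect group
-/

set_option autoImplicit false
set_option linter.style.haveILetI false
set_option linter.unusedSectionVars false

namespace CfsgLib.KleinDefect

open Cfsg

universe u

variable {G : Type u} [Group G] [Finite G]

theorem klein_props {P : Subgroup G} (hV : IsKleinFour P) :
    Nat.card P = 4 ∧ (∀ x ∈ P, x * x = 1) ∧ (∀ x ∈ P, x ≠ 1 → orderOf x = 2) ∧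
      IsPGroup 2 P ∧ ∀ x ∈ P, ∀ y ∈ P, x * y = y * x := by
  have h4 := hV.card_four
  have hsq : ∀ x ∈ P, x * x = 1 := fun x hx => by
    have h := Monoid.pow_exponent_eq_one (⟨x, hx⟩ : P)
    rw [hV.exponent_two] at h
    simpa [pow_two] using congrArg Subtype.val h
  refine ⟨h4, hsq, fun x hx hx1 => orderOf_eq_prime (by rw [pow_two, hsq x hx]) hx1,
    IsPGroup.of_card (n := 2) (by rw [h4]; norm_num), fun x hx y hy => ?_⟩
  have hxi : x⁻¹ = x := inv_eq_of_mul_eq_one_right (hsq x hx)
  have hyi : y⁻¹ = y := inv_eq_of_mul_eq_one_right (hsq y hy)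
  have h := inv_eq_of_mul_eq_one_right (hsq _ (P.mul_mem hx hy))
  rw [mul_inv_rev, hxi, hyi] at h
  exact h.symm

theorem card_nontrivial {P : Subgroup G} (hV : IsKleinFour P) :
    Nat.card {v : G // v ∈ P ∧ v ≠ 1} = 3 := by
  classical
  have : Fintype G := Fintype.ofFinite G
  rw [Nat.card_eq_fintype_card, Fintype.card_subtype]
  have h : (Finset.univ.filter fun v : G => v ∈ P ∧ v ≠ 1) =
      (Finset.univ.filter fun v : G => v ∈ P).erase 1 := by
    ext v; simp [and_comm]
  rw [h, Finset.card_erase_of_mem (by simp [P.one_mem]), ← Fintype.card_subtype,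
    ← Nat.card_eq_fintype_card, (klein_props hV).1]

/-- The action of `T ≤ N(P)` on the nontrivial elements of `P`. -/
def conjPerm (P T : Subgroup G) (hT : T ≤ Subgroup.normalizer (P : Set G)) :
    T →* Equiv.Perm {v : G // v ∈ P ∧ v ≠ 1} where
  toFun t :=
    { toFun := fun v => ⟨t * v * (t : G)⁻¹, (Subgroup.mem_normalizer_iff.1 (hT t.2) v).1 v.2.1,
        fun h => v.2.2 (conj_eq_one_iff.1 h)⟩
      invFun := fun v => ⟨(t : G)⁻¹ * v * ((t : G)⁻¹)⁻¹,
        (Subgroup.mem_normalizer_iff.1 (hT (T.inv_mem t.2)) v).1 v.2.1,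
        fun h => v.2.2 (conj_eq_one_iff.1 h)⟩
      left_inv := fun v => Subtype.ext (by simp [mul_assoc])
      right_inv := fun v => Subtype.ext (by simp [mul_assoc]) }
  map_one' := Equiv.ext fun v => Subtype.ext (by simp)
  map_mul' a b := Equiv.ext fun v => Subtype.ext (by simp [mul_assoc, mul_inv_rev])

theorem conjPerm_apply (P T : Subgroup G) (hT : T ≤ Subgroup.normalizer (P : Set G)) (t : T)
    (v : {v : G // v ∈ P ∧ v ≠ 1}) : (conjPerm P T hT t v : G) = t * v * (t : G)⁻¹ := rfl

theorem conjPerm_ker (P T : Subgroup G) (hT : T ≤ Subgroup.normalizer (P : Set G)) :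
    (conjPerm P T hT).ker = (Subgroup.centralizer (P : Set G)).subgroupOf T := by
  ext t
  rw [MonoidHom.mem_ker, Subgroup.mem_subgroupOf, Subgroup.mem_centralizer_iff]
  constructor
  · intro h x hx
    by_cases hx1 : x = 1
    · simp [hx1]
    · have := congrArg (fun σ : Equiv.Perm {v : G // v ∈ P ∧ v ≠ 1} =>
        (σ ⟨x, hx, hx1⟩ : G)) h
      simp only [conjPerm_apply, Equiv.Perm.coe_one, id_eq] at this
      exact (mul_inv_eq_iff_eq_mul.1 this).symm
  · intro h
    refine Equiv.ext fun v => Subtype.ext ?_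
    rw [conjPerm_apply, ← h v v.2.1, mul_inv_cancel_right]
    rfl

/-- An inertial index three fuses the involutions. -/
theorem transitive_of_three {P T : Subgroup G} (hV : IsKleinFour P)
    (hT : T ≤ Subgroup.normalizer (P : Set G))
    (he : (Subgroup.centralizer (P : Set G)).relIndex T = 3) {x y : G} (hx : x ∈ P) (hx1 : x ≠ 1)
    (hy : y ∈ P) (hy1 : y ≠ 1) : ∃ t ∈ T, t * x * t⁻¹ = y := by
  classical
  have : Fintype G := Fintype.ofFinite G
  have h3 : Fintype.card {v : G // v ∈ P ∧ v ≠ 1} = 3 := by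
    rw [← Nat.card_eq_fintype_card, card_nontrivial hV]
  have hrange : Nat.card (conjPerm P T hT).range = 3 := by
    rw [← Subgroup.index_ker, conjPerm_ker]; exact he
  obtain ⟨⟨σ, t, rfl⟩, hσ⟩ :=
    exists_prime_orderOf_dvd_card' (G := (conjPerm P T hT).range) 3 (hrange ▸ dvd_rfl)
  rw [← Subgroup.orderOf_coe] at hσ
  have hcyc : (conjPerm P T hT t).IsCycle :=
    Equiv.Perm.isCycle_of_prime_order'' (by rw [h3]; exact Nat.prime_three)
      (by rw [h3]; exact hσ)
  have hsupp : (conjPerm P T hT t).support = Finset.univ := by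
    refine Finset.eq_univ_of_card _ ?_
    rw [← hcyc.orderOf, h3]
    exact hσ
  have hmem : ∀ v, conjPerm P T hT t v ≠ v := fun v =>
    Equiv.Perm.mem_support.1 (hsupp ▸ Finset.mem_univ v)
  obtain ⟨i, hi⟩ := hcyc.exists_pow_eq (hmem ⟨x, hx, hx1⟩) (hmem ⟨y, hy, hy1⟩)
  refine ⟨((t ^ i : T) : G), SetLike.coe_mem _, ?_⟩
  rw [← map_pow] at hi
  exact congrArg Subtype.val hi

/-- The inertial index of a Klein four group divides six. -/
theorem relIndex_dvd_six {P T : Subgroup G} (hV : IsKleinFour P)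
    (hT : T ≤ Subgroup.normalizer (P : Set G)) :
    (Subgroup.centralizer (P : Set G)).relIndex T ∣ 6 := by
  classical
  have : Fintype G := Fintype.ofFinite G
  show ((Subgroup.centralizer (P : Set G)).subgroupOf T).index ∣ 6
  rw [← conjPerm_ker P T hT, Subgroup.index_ker]
  refine (Subgroup.card_subgroup_dvd_card _).trans ?_
  rw [Nat.card_perm, card_nontrivial hV]
  decide

end CfsgLib.KleinDefect
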